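import Cfsg.Agent.Lib.Lie.Twisted.E6Mult.Lifts

/-!
# Commutators of the lifted families and the lifted unipotent group
-/

set_option autoImplicit false
set_option linter.unusedSectionVars false

namespace CfsgLib.Lie.Chev.TwGroups.E6Mult

open Cfsg.Lie (chevE6)
open CfsgLib.PLocal CfsgLib.PLocal.RadTw
open CfsgLib.Known.SympMult
open scoped commutatorElement

variable {K : Type*} [Field K] [Fintype K] {q : ℕ} (hq : IsPrimePow q) (hK : Fintype.card K = q ^ 2) (h3 : 3 ≤ q)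
variable {Γ : Type*} [Group Γ] {π : Γ →* ↥(Tg hq hK)} (C : CExt π)

/-- the lifts of the listed families -/
noncomputable def ML (L : List ℕ) : Subgroup Γ :=
  Subgroup.closure {g | ∃ (a : {r : ℕ // r ∈ posR}) (w : _), (a : ℕ) ∈ L ∧ g = Lr hq hK h3 C a w}

theorem Lr_mem_ML {L : List ℕ} {a : {r : ℕ // r ∈ posR}} (ha : (a : ℕ) ∈ L) (w : ↥(P hq hK (rtP a))) :
    Lr hq hK h3 C a w ∈ ML hq hK h3 C L := Subgroup.subset_closure ⟨a, w, ha, rfl⟩

theorem ML_conj (L : List ℕ) (n : ℕ) (t : Kˣ) {k : Γ} (hk : π k = hE hq hK n t) {μ : Γ}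
    (hμ : μ ∈ ML hq hK h3 C L) : k * μ * k⁻¹ ∈ ML hq hK h3 C L := by
  have hle : ML hq hK h3 C L ≤ (ML hq hK h3 C L).comap (MulAut.conj k).toMonoidHom :=
    (Subgroup.closure_le _).2 fun g ⟨a, w, ha, e⟩ => by
      rw [SetLike.mem_coe, Subgroup.mem_comap, e]
      show k * Lr hq hK h3 C a w * k⁻¹ ∈ ML hq hK h3 C L
      rw [Lr_conj hq hK h3 C a n t hk]
      exact Lr_mem_ML hq hK h3 C ha _
  exact hle hμ

/-- fixed elements supported on the listed orbits are images of lifts -/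
theorem ML_cover {L : List ℕ} (hL : ∀ e ∈ L, e ∈ posR) (hs : ShapeOK L) {g : ↥(Tg hq hK)}
    (hg : g ∈ SG hq hK (lset (flatL L))) : ∃ μ ∈ ML hq hK h3 C L, π μ = g := by
  have one : ∀ (e : {r : ℕ // r ∈ posR}), (e : ℕ) ∈ L → ∀ g : ↥(Tg hq hK),
      g ∈ SG hq hK (orb (rtP e)) → ∃ μ ∈ ML hq hK h3 C L, π μ = g := fun e he g hg => by
    obtain ⟨w, rfl⟩ := exists_Z hq hK hg
    exact ⟨_, Lr_mem_ML hq hK h3 C he w, π_Lr hq hK h3 C e w⟩
  match L, hs with
  | [], _ =>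
    refine ⟨1, one_mem _, ?_⟩
    rw [map_one]
    exact (mem_SG_nil hq hK hg).symm
  | [k], _ =>
    have h : flatL [k] = cl k := List.append_nil _
    rw [h] at hg
    refine one ⟨k, hL k List.mem_cons_self⟩ List.mem_cons_self g ?_
    rw [← lset_cl]
    exact hg
  | [k, k'], hs =>
    have h : flatL [k, k'] = cl k ++ cl k' := congrArg (cl k ++ ·) (List.append_nil _)
    rw [h] at hg
    have hk' : k' ∈ [k, k'] := List.mem_cons_of_mem _ List.mem_cons_self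
    obtain ⟨g1, h1, g2, h2, rfl⟩ := split_mem hq hK (k := rtP ⟨k, hL k List.mem_cons_self⟩)
      (k' := rtP ⟨k', hL k' hk'⟩) hs hg
    obtain ⟨μ1, m1, e1⟩ := one ⟨k, hL k List.mem_cons_self⟩ List.mem_cons_self g1 h1
    obtain ⟨μ2, m2, e2⟩ := one ⟨k', hL k' hk'⟩ hk' g2 h2
    exact ⟨μ1 * μ2, mul_mem m1 m2, by rw [map_mul, e1, e2]⟩

theorem lset_flat_mem {L : List ℕ} (hL : ∀ e ∈ L, e ∈ posR) {r : Rt} (hr : (r : ℕ) ∈ flatL L) :
    ∃ e ∈ L, e ≤ (r : ℕ) := by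
  obtain ⟨e, he, hre⟩ := List.mem_flatMap.1 hr
  refine ⟨e, he, ?_⟩
  have key : ∀ e ∈ posR, ∀ x ∈ cl e, e ≤ x := by decide +kernel
  exact key e (hL e he) _ hre

/-- separated families have lifted commutators among the lifts -/
theorem comm_move {m f : {r : ℕ // r ∈ posR}} {L : List ℕ} (hL : ∀ e ∈ L, e ∈ posR)
    (hok : MoveOK (m : ℕ) (f : ℕ) L)
    (hin : ∀ t u, ∃ μ ∈ ML hq hK h3 C L, π μ = ⁅Z hq hK (rtP m) t, Z hq hK (rtP f) u⁆)
    (t : ↥(P hq hK (rtP m))) (u : ↥(P hq hK (rtP f))) :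
    ⁅Lr hq hK h3 C m t, Lr hq hK h3 C f u⁆ ∈ ML hq hK h3 C L := by
  obtain ⟨⟨n, -, hs⟩, hlc⟩ := hok
  obtain ⟨t0, ht0⟩ := exists_mv_sub hq hK h3 (r := rtP m) hs.1
  obtain ⟨h, hh⟩ := C.surj (hE hq hK n t0)
  -- the lifted commutators as functions of the moving parameter
  obtain ⟨c, hc⟩ : ∃ c : ↥(P hq hK (rtP m)) → Γ, ∀ t, c t = ⁅Lr hq hK h3 C m t, Lr hq hK h3 C f u⁆ :=
    ⟨_, fun _ => rfl⟩
  have hdec : ∀ t, ∃ μ ∈ ML hq hK h3 C L, ∃ z, π z = 1 ∧ c t = μ * z := fun t => by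
    obtain ⟨μ, hμ, e⟩ := hin t u
    obtain ⟨z, hz, e'⟩ := C.diff (x := c t) (y := μ) (by rw [hc, map_commutatorElement, π_Lr, π_Lr, e])
    exact ⟨μ, hμ, z, hz, e'⟩
  have hcent : ∀ t t', Commute (Lr hq hK h3 C m t) (c t') := fun t t' => by
    obtain ⟨μ, hμ, z, hz, e⟩ := hdec t'
    rw [e]
    clear e
    refine Commute.mul_right ?_ (C.ker_comm hz _)
    induction hμ using Subgroup.closure_induction with
    | mem x hx =>
      obtain ⟨a, w, ha, rfl⟩ := hx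
      exact lc_of_ok hq hK h3 C (a := rtP m) (b := rtP a) (hlc _ ha) t w _ _ (π_Lr hq hK h3 C m t)
        (π_Lr hq hK h3 C a w)
    | one => exact Commute.one_right _
    | mul x y _ _ hx hy => exact hx.mul_right hy
    | inv x _ hx => exact hx.inv_right
  have hadd : ∀ t t', c (t + t') = c t' * c t := fun t t' => by
    rw [hc, Lr_add, show ⁅Lr hq hK h3 C m t * Lr hq hK h3 C m t', Lr hq hK h3 C f u⁆ =
      Lr hq hK h3 C m t * ⁅Lr hq hK h3 C m t', Lr hq hK h3 C f u⁆ * (Lr hq hK h3 C m t)⁻¹ *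
        ⁅Lr hq hK h3 C m t, Lr hq hK h3 C f u⁆ by simp only [commutatorElement_def]; group, ← hc, ← hc,
      (hcent t t').eq, mul_inv_cancel_right]
  have hmv : ∀ t, c (mv hq hK n t0 (rtP m) t) = h * c t * h⁻¹ := fun t => by
    rw [hc, hc, show h * ⁅Lr hq hK h3 C m t, Lr hq hK h3 C f u⁆ * h⁻¹ =
      ⁅h * Lr hq hK h3 C m t * h⁻¹, h * Lr hq hK h3 C f u * h⁻¹⁆ by simp only [commutatorElement_def]; group,
      Lr_conj hq hK h3 C m n t0 hh, Lr_conj hq hK h3 C f n t0 hh, mv_of_triv hq hK (r := rtP f) hs.2.1 hs.2.2]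
  obtain ⟨w, hw⟩ := ht0 t
  obtain ⟨μ, hμ, z, hz, e⟩ := hdec w
  rw [← hc]
  have e2 : c t * c w = h * c w * h⁻¹ := by rw [← hadd, ← hw, hmv]
  rw [← eq_mul_inv_iff_mul_eq, e, show h * (μ * z) * h⁻¹ * (μ * z)⁻¹ = h * μ * h⁻¹ * (h * z * h⁻¹ * z⁻¹) * μ⁻¹ by
    group, (C.ker_comm hz h).eq, mul_inv_cancel_right, mul_inv_cancel, mul_one] at e2
  rw [e2]
  exact mul_mem (ML_conj hq hK h3 C L n t0 hh hμ) (inv_mem hμ)

/-- lifted commutators of two positive families lie among the later lifts -/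
theorem comm_Lr {a b : {r : ℕ // r ∈ posR}} (hab : (a : ℕ) < b) (t : ↥(P hq hK (rtP a)))
    (u : ↥(P hq hK (rtP b))) :
    ⁅Lr hq hK h3 C a t, Lr hq hK h3 C b u⁆ ∈ ML hq hK h3 C (termsL a b) := by
  obtain ⟨hgt, hct, hna, hnb, hsh, hmove⟩ := pair_ok _ a.2 _ b.2 hab
  have hL : ∀ e ∈ termsL (a : ℕ) b, e ∈ posR := fun e he => (hgt e he).2
  have hin : ∀ t u, ∃ μ ∈ ML hq hK h3 C (termsL a b), π μ = ⁅Z hq hK (rtP a) t, Z hq hK (rtP b) u⁆ := fun t u => by
    refine ML_cover hq hK h3 C hL hsh ?_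
    obtain ⟨p, hp, e⟩ := swap_mod hq hK (a := rtP a) (b := rtP b) hct hnb hna t u
    obtain ⟨x, hx⟩ : ∃ x, x = Z hq hK (rtP a) t := ⟨_, rfl⟩
    obtain ⟨y, hy⟩ : ∃ y, y = Z hq hK (rtP b) u := ⟨_, rfl⟩
    rw [← hx, ← hy] at e ⊢
    rw [commutatorElement_def, show x * y * x⁻¹ * y⁻¹ = x * y * (y * x)⁻¹ by group, e, mul_inv_rev,
      ← mul_assoc]
    exact (Subgroup.mem_normalizer_iff.1 (mul_mem (hx ▸ Z_normalizer hq hK hna t)
      (hy ▸ Z_normalizer hq hK hnb u)) _).1 (inv_mem hp)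
  rcases hmove with hm | hm
  · exact comm_move hq hK h3 C hL hm hin t u
  · rw [← commutatorElement_inv]
    refine inv_mem (comm_move hq hK h3 C hL hm (fun u t => ?_) u t)
    obtain ⟨μ, hμ, e⟩ := hin t u
    exact ⟨μ⁻¹, inv_mem hμ, by rw [map_inv, e, commutatorElement_inv]⟩

/-- the lifts of the families from a level on -/
noncomputable def MU (k : ℕ) : Subgroup Γ :=
  Subgroup.closure {g | ∃ (a : {r : ℕ // r ∈ posR}) (w : _), k ≤ (a : ℕ) ∧ g = Lr hq hK h3 C a w}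

theorem Lr_mem_MU {k : ℕ} {a : {r : ℕ // r ∈ posR}} (ha : k ≤ (a : ℕ)) (w : ↥(P hq hK (rtP a))) :
    Lr hq hK h3 C a w ∈ MU hq hK h3 C k := Subgroup.subset_closure ⟨a, w, ha, rfl⟩

theorem MU_mono {k l : ℕ} (h : l ≤ k) : MU hq hK h3 C k ≤ MU hq hK h3 C l :=
  (Subgroup.closure_le _).2 fun _ ⟨a, w, ha, e⟩ => e ▸ Lr_mem_MU hq hK h3 C (h.trans ha) w

theorem MU_succ_of_not {k : ℕ} (hk : k ∉ posR) : MU hq hK h3 C k = MU hq hK h3 C (k + 1) := by
  refine le_antisymm ((Subgroup.closure_le _).2 fun _ ⟨a, w, ha, e⟩ => e ▸ Lr_mem_MU hq hK h3 C ?_ w)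
    (MU_mono hq hK h3 C k.le_succ)
  rcases ha.eq_or_lt with h | h
  · exact absurd (h ▸ a.2) hk
  · exact h

/-- the family at a level -/
noncomputable def LrHom (a : {r : ℕ // r ∈ posR}) : Subgroup Γ where
  carrier := Set.range (Lr hq hK h3 C a)
  one_mem' := ⟨0, Lr_zero hq hK h3 C a⟩
  mul_mem' := by rintro _ _ ⟨v, rfl⟩ ⟨v', rfl⟩; exact ⟨_, Lr_add hq hK h3 C a v v'⟩
  inv_mem' := by
    rintro _ ⟨v, rfl⟩
    exact ⟨-v, eq_inv_of_mul_eq_one_left (by rw [← Lr_add, neg_add_cancel, Lr_zero])⟩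

theorem LrHom_normalizes (a : {r : ℕ // r ∈ posR}) :
    LrHom hq hK h3 C a ≤ Subgroup.normalizer (MU hq hK h3 C ((a : ℕ) + 1) : Set Γ) := by
  rintro _ ⟨v, rfl⟩
  have key : ∀ v, ∀ x ∈ MU hq hK h3 C ((a : ℕ) + 1),
      Lr hq hK h3 C a v * x * (Lr hq hK h3 C a v)⁻¹ ∈ MU hq hK h3 C ((a : ℕ) + 1) := fun v x hx => by
    have hle : MU hq hK h3 C ((a : ℕ) + 1) ≤
        (MU hq hK h3 C ((a : ℕ) + 1)).comap (MulAut.conj (Lr hq hK h3 C a v)).toMonoidHom :=
      (Subgroup.closure_le _).2 fun g ⟨b, w, hb, e⟩ => by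
        rw [SetLike.mem_coe, Subgroup.mem_comap, e]
        show Lr hq hK h3 C a v * Lr hq hK h3 C b w * (Lr hq hK h3 C a v)⁻¹ ∈ _
        rw [show Lr hq hK h3 C a v * Lr hq hK h3 C b w * (Lr hq hK h3 C a v)⁻¹ =
          ⁅Lr hq hK h3 C a v, Lr hq hK h3 C b w⁆ * Lr hq hK h3 C b w by
            simp only [commutatorElement_def]; group]
        have hgt := (pair_ok _ a.2 _ b.2 hb).1
        refine mul_mem ((Subgroup.closure_le _).2 ?_ (comm_Lr hq hK h3 C hb v w)) (Lr_mem_MU hq hK h3 C hb w)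
        rintro _ ⟨e, x, he, rfl⟩
        exact Lr_mem_MU hq hK h3 C (hgt _ he).1 x
    exact hle hx
  rw [Subgroup.mem_normalizer_iff]
  intro x
  refine ⟨key v x, fun hx => ?_⟩
  have := key (-v) _ hx
  rwa [show Lr hq hK h3 C a (-v) = (Lr hq hK h3 C a v)⁻¹ from
    eq_inv_of_mul_eq_one_left (by rw [← Lr_add, neg_add_cancel, Lr_zero]), inv_inv, ← mul_assoc, ← mul_assoc,
    inv_mul_cancel, one_mul, inv_mul_cancel_right] at this

theorem MU_split (a : {r : ℕ // r ∈ posR}) {g : Γ} (hg : g ∈ MU hq hK h3 C (a : ℕ)) :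
    ∃ μ ∈ MU hq hK h3 C ((a : ℕ) + 1), ∃ v, g = μ * Lr hq hK h3 C a v := by
  have hle : MU hq hK h3 C (a : ℕ) ≤ MU hq hK h3 C ((a : ℕ) + 1) ⊔ LrHom hq hK h3 C a :=
    (Subgroup.closure_le _).2 fun g ⟨b, w, hb, e⟩ => by
      rcases hb.eq_or_lt with h | h
      · obtain rfl : a = b := Subtype.ext h
        exact Subgroup.mem_sup_right ⟨w, e.symm⟩
      · exact Subgroup.mem_sup_left (e ▸ Lr_mem_MU hq hK h3 C h w)
  obtain ⟨μ, hμ, _, ⟨v, rfl⟩, rfl⟩ := exists_mul_of_mem_sup (LrHom_normalizes hq hK h3 C a) (hle hg)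
  exact ⟨μ, hμ, v, rfl⟩

theorem MU_high {k : ℕ} (hk : chevE6.nroots ≤ k) : MU hq hK h3 C k = ⊥ :=
  (Subgroup.closure_eq_bot_iff).2 fun _ ⟨a, _, ha, _⟩ => absurd (rtP a).2 (by
    have : ((rtP a : Rt) : ℕ) = a := rfl
    omega)

theorem MU_image {k : ℕ} {g : Γ} (hg : g ∈ MU hq hK h3 C k) :
    ((π g : ↥(Tg hq hK)) : ↥(chevE6.group K)) ∈ (chevRel certE6 K).US (geSet chevE6 k) := by
  induction hg using Subgroup.closure_induction with
  | mem x hx =>
    obtain ⟨a, w, ha, rfl⟩ := hx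
    rw [π_Lr, Z_val]
    refine (chevRel certE6 K).US_mono ?_ (zval_mem_US hq hK (rtP a) (w : K))
    have hb := ((posR_iff _ (rtP a).2).1 a.2).2
    rintro s (rfl | rfl)
    · exact ha
    · exact le_trans ha hb
  | one => rw [map_one]; exact one_mem _
  | mul x y _ _ hx hy => rw [map_mul, Subgroup.coe_mul]; exact mul_mem hx hy
  | inv x _ hx => rw [map_inv, InvMemClass.coe_inv]; exact inv_mem hx

theorem coord_zero' {r : Rt} (hr : half chevE6 ≤ (r : ℕ) ∧ (r : ℕ) ≤ bar r) {v : ↥(P hq hK r)}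
    (h : zval hq hK r v ∈ (chevRel certE6 K).US (geSet chevE6 ((r : ℕ) + 1))) : v = 0 := by
  obtain ⟨hpos, hb⟩ := hr
  have hx : xG certE6 K r (v : K) ∈ (chevRel certE6 K).US (geSet chevE6 ((r : ℕ) + 1)) := by
    unfold zval at h
    split_ifs at h with hfix
    · rwa [mul_one] at h
    · have h2 : xG certE6 K (barF r : ℕ) (fr hq hK r (v : K)) ∈
          (chevRel certE6 K).US (geSet chevE6 ((r : ℕ) + 1)) := by
        refine (chevRel certE6 K).xe_mem_US (r := barF r) ?_ _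
        show (r : ℕ) + 1 ≤ bar r
        omega
      have := mul_mem h (inv_mem h2)
      rwa [mul_inv_cancel_right] at this
  obtain ⟨i, hi⟩ := (chevRel certE6 K).exists_cor_ne_zero r.2
  have h0 := ((chevRel certE6 K).mat_inl_inr hpos hx).2 i ((chevRel certE6 K).negF r) (by
    show _ ≤ chevE6.neg r; rw [(chevRel certE6 K).cert.neg_eq r.2])
  rw [show (chevRel certE6 K).mat (xG certE6 K r (v : K)) = chevE6.x K r (v : K) from
    (chevRel certE6 K).mat_xe r _, (chevRel certE6 K).cert.xM_inl_inr r.2,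
    if_pos (show ((chevRel certE6 K).negF r : ℕ) = chevE6.neg r from rfl)] at h0
  exact Subtype.ext ((mul_eq_zero.1 h0).resolve_left hi)

theorem coord_zero (a : {r : ℕ // r ∈ posR}) {v : ↥(P hq hK (rtP a))}
    (h : zval hq hK (rtP a) v ∈ (chevRel certE6 K).US (geSet chevE6 ((a : ℕ) + 1))) : v = 0 :=
  coord_zero' hq hK ((posR_iff _ (rtP a).2).1 a.2) h


theorem MU_injective : ∀ (n k : ℕ), chevE6.nroots ≤ k + n → ∀ g ∈ MU hq hK h3 C k, π g = 1 → g = 1
  | 0, k, hk, g, hg, _ => Subgroup.mem_bot.1 (MU_high hq hK h3 C (k := k) (by omega) ▸ hg)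
  | n + 1, k, hk, g, hg, h1 => by
    by_cases hp : k ∈ posR
    · obtain ⟨μ, hμ, v, rfl⟩ := MU_split hq hK h3 C ⟨k, hp⟩ hg
      have hv : v = 0 := by
        refine coord_zero hq hK ⟨k, hp⟩ ?_
        have := MU_image hq hK h3 C hμ
        rw [map_mul, π_Lr] at h1
        rw [eq_inv_of_mul_eq_one_left h1, InvMemClass.coe_inv, Z_val] at this
        exact inv_mem_iff.1 this
      subst hv
      rw [Lr_zero, mul_one] at h1 ⊢
      exact MU_injective n (k + 1) (by omega) μ hμ h1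
    · rw [MU_succ_of_not hq hK h3 C hp] at hg
      exact MU_injective n (k + 1) (by omega) g hg h1

theorem natCard_P (r : Rt) : Nat.card ↥(P hq hK r) = if bar r = r then q else q ^ 2 := by
  split_ifs with h
  · rw [P_fixed hq hK h, card_Fq]
  · rw [P_short hq hK h, AddSubgroup.card_top, Nat.card_eq_fintype_card, hK]

/-- the exponent of the order -/
def expo (k : ℕ) : ℕ :=
  ((List.range' k (chevE6.nroots - k)).map fun r => if r ∈ posR then (if bar r = r then 1 else 2) else 0).sum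

theorem expo_succ {k : ℕ} (hk : k < chevE6.nroots) :
    expo k = (if k ∈ posR then (if bar k = k then 1 else 2) else 0) + expo (k + 1) := by
  unfold expo
  rw [show chevE6.nroots - k = (chevE6.nroots - (k + 1)) + 1 by omega, List.range'_succ, List.map_cons,
    List.sum_cons]

theorem expo_half : expo (half chevE6) = 36 := by decide +kernel

theorem MU_card : ∀ (n k : ℕ), k + n = chevE6.nroots → Nat.card ↥(MU hq hK h3 C k) = q ^ expo k
  | 0, k, hk => by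
    rw [MU_high hq hK h3 C (k := k) (by omega), Subgroup.card_bot, expo, show chevE6.nroots - k = 0 by omega]
    rfl
  | n + 1, k, hk => by
    have ih := MU_card n (k + 1) (by omega)
    rw [expo_succ (by omega)]
    by_cases hp : k ∈ posR
    · have hbij : Function.Bijective (fun x : ↥(MU hq hK h3 C (k + 1)) × ↥(P hq hK (rtP ⟨k, hp⟩)) =>
          (⟨(x.1 : Γ) * Lr hq hK h3 C ⟨k, hp⟩ x.2, mul_mem (MU_mono hq hK h3 C k.le_succ x.1.2)
            (Lr_mem_MU hq hK h3 C (le_refl _) x.2)⟩ : ↥(MU hq hK h3 C k))) := by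
        refine ⟨fun x y e => ?_, fun g => ?_⟩
        · obtain ⟨⟨μ, hμ⟩, v⟩ := x
          obtain ⟨⟨μ', hμ'⟩, v'⟩ := y
          have e' : μ'⁻¹ * μ = Lr hq hK h3 C ⟨k, hp⟩ (v' - v) := by
            have := congrArg Subtype.val e
            simp only at this
            rw [sub_eq_add_neg, Lr_add, show Lr hq hK h3 C ⟨k, hp⟩ (-v) = (Lr hq hK h3 C ⟨k, hp⟩ v)⁻¹ from
              eq_inv_of_mul_eq_one_left (by rw [← Lr_add, neg_add_cancel, Lr_zero]), inv_mul_eq_iff_eq_mul,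
              ← mul_assoc, ← this, mul_inv_cancel_right]
          have h0 : v' - v = 0 := by
            refine coord_zero hq hK ⟨k, hp⟩ ?_
            have := MU_image hq hK h3 C (mul_mem (inv_mem hμ') hμ)
            rwa [e', π_Lr, Z_val] at this
          rw [h0, Lr_zero, inv_mul_eq_one] at e'
          simp [e', sub_eq_zero.1 h0]
        · obtain ⟨μ, hμ, v, e⟩ := MU_split hq hK h3 C ⟨k, hp⟩ g.2
          exact ⟨(⟨μ, hμ⟩, v), Subtype.ext e.symm⟩
      rw [← Nat.card_eq_of_bijective _ hbij, Nat.card_prod, ih, natCard_P, if_pos hp, pow_add, mul_comm,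
        show ((rtP ⟨k, hp⟩ : Rt) : ℕ) = k from rfl]
      congr 1
      split_ifs <;> simp
    · rw [if_neg hp, zero_add, MU_succ_of_not hq hK h3 C hp, ih]

include h3 C in
/-- a complement of the kernel over a Sylow subgroup -/
theorem exists_complement :
    ∃ M : Subgroup Γ, (∀ x ∈ M, π x = 1 → x = 1) ∧ Nat.card ↥(M.map π) = q ^ 36 := by
  have hinj : ∀ x ∈ MU hq hK h3 C (half chevE6), π x = 1 → x = 1 :=
    MU_injective hq hK h3 C chevE6.nroots (half chevE6) (by omega)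
  refine ⟨MU hq hK h3 C (half chevE6), hinj, ?_⟩
  have hbij : Function.Bijective ((π.comp (MU hq hK h3 C (half chevE6)).subtype).codRestrict
      ((MU hq hK h3 C (half chevE6)).map π) fun x => ⟨x, x.2, rfl⟩) := by
    refine ⟨(injective_iff_map_eq_one _).2 fun x hx => Subtype.ext (hinj x x.2 (congrArg Subtype.val hx)), ?_⟩
    rintro ⟨_, x, hx, rfl⟩
    exact ⟨⟨x, hx⟩, rfl⟩
  rw [← Nat.card_eq_of_bijective _ hbij, MU_card hq hK h3 C (chevE6.nroots - half chevE6) _ (by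
    have : half chevE6 ≤ chevE6.nroots := by decide +kernel
    omega), expo_half]

end CfsgLib.Lie.Chev.TwGroups.E6Mult
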