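import Cfsg.Agent.Lib.Lie.Twisted.E6Mult.CoverSys
import Cfsg.Agent.Lib.Lie.Twisted.E6Mult.Cells
import Cfsg.Agent.Lib.Lie.Twisted.E6Perfect
import Cfsg.Agent.Lib.Known.SLn.Multiplier
import Cfsg.Agent.Lib.Known.StCover

/-!
# The Schur multiplier of the twisted groups of type E6
-/

set_option autoImplicit false
set_option linter.unusedSectionVars false

universe u

namespace CfsgLib.Lie.Chev.TwGroups.E6Mult

open Cfsg.Lie (chevE6)
open CfsgLib.PLocal CfsgLib.PLocal.RadTw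
open CfsgLib.Known.RootLift (coprimeExt_id L_id)

variable {K : Type u} [Field K] [Fintype K] {q : ℕ} (hq : IsPrimePow q) (hK : Fintype.card K = q ^ 2)

theorem cov_finite : Finite ↥(cov hq hK) :=
  haveI : Finite (chevE6.SteinbergGroup K) := (RS K).Finite_of_field
  inferInstance

theorem covθ_eq_one {z : ↥(cov hq hK)} : z ∈ (covθ hq hK).ker ↔ stTheta certE6 K z = 1 :=
  ⟨fun h => congrArg Subtype.val (MonoidHom.mem_ker.1 h), fun h => MonoidHom.mem_ker.2 (Subtype.ext h)⟩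

theorem cker_le_center : (covθ hq hK).ker ≤ Subgroup.center ↥(cov hq hK) := fun z hz => by
  have h : (z : chevE6.SteinbergGroup K) ∈ Subgroup.center (chevE6.SteinbergGroup K) := by
    rw [center_stGroup certE6 K witE6 connE6]
    exact MonoidHom.mem_ker.2 ((covθ_eq_one hq hK).1 hz)
  exact Subgroup.mem_center_iff.2 fun g => Subtype.ext (Subgroup.mem_center_iff.1 h g)

theorem exists_cu {p : ℕ} (k : Fin 4) (v : Kˣ) (hv : (v : K) ∈ dom hq hK (sim k)) :
    ∃ c, cu hq hK p k c = v :=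
  ⟨Units.mk0 ⟨(v : K), hv⟩ fun e => v.ne_zero (congrArg Subtype.val e), Units.ext rfl⟩

theorem dom_fixed {k : Fin 4} (hk : bar (sim k) = sim k) {v : Kˣ} :
    (v : K) ∈ dom hq hK (sim k) ↔ v ∈ fixUnits K q := by
  rw [mem_dom, fixUnits_iff hq.pos, Units.ext_iff, Units.val_pow_eq_pow_val]
  exact ⟨fun h => (frE6_apply hq hK _).symm.trans (h hk), fun h _ => (frE6_apply hq hK _).trans h⟩

theorem dom_moved {k : Fin 4} (hk : bar (sim k) ≠ sim k) (v : K) : v ∈ dom hq hK (sim k) :=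
  (mem_dom hq hK).2 fun e => absurd e hk

theorem card_cker (p : ℕ) [hp : Fact p.Prime] [CharP K p] :
    Nat.card ↥(covθ hq hK).ker = Nat.gcd 3 (q + 1) := by
  have hfin := cov_finite hq hK
  have hU : IsPGroup p (covSys hq hK p).U := cU_isPGroup hq hK
  obtain ⟨θ, hθ⟩ : ∃ θ, θ = (covSys hq hK p).tor (coprimeExt_id hp.out) := ⟨_, rfl⟩
  have hform : ∀ [DecidableEq (Fin 4)], ∀ k (c : (covSys hq hK p).TU k), θ (Pi.mulSingle k c) =
      cn hq hK k ((cu hq hK p k c : Kˣ) : K) * cn hq hK k (-1) := by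
    intro _ k c
    rw [hθ, Known.RootLiftF.Sys.tor, MonoidHom.noncommPiCoprod_mulSingle]
    have hrx : ∀ a t, (covSys hq hK p).rx (coprimeExt_id hp.out) a t = cR hq hK a t := fun a t =>
      L_id hp.out ((covSys hq hK p).R_pelt a t)
    have hry : ∀ a t, (covSys hq hK p).ry (coprimeExt_id hp.out) a t = cR hq hK (ng a) t := fun a t =>
      L_id hp.out ((covSys hq hK p).N_pelt a t)
    show (covSys hq hK p).hh (coprimeExt_id hp.out) k _ = _
    simp only [Known.RootLiftF.Sys.hh, Known.RootLiftF.Sys.nn, hrx, hry]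
    rfl
  have htor := tor_eq hq hK p (θ := θ) hform
  obtain ⟨⟨b0, b1⟩, b2, b3⟩ := bar_sim_ok
  rw [← psiE6_ker hq hK]
  have hx : ∀ y : (fixUnits K q × fixUnits K q) × (Kˣ × Kˣ),
      ∃ x, tt hq hK p x = tupE6 q (y.1.1 : Kˣ) (y.1.2 : Kˣ) y.2.1 y.2.2 := fun y => by
    obtain ⟨c0, e0⟩ := exists_cu hq hK (p := p) 0 _ ((dom_fixed hq hK b0).2 y.1.1.2)
    obtain ⟨c1, e1⟩ := exists_cu hq hK (p := p) 1 _ ((dom_fixed hq hK b1).2 y.1.2.2)
    obtain ⟨c2, e2⟩ := exists_cu hq hK (p := p) 2 y.2.1 (dom_moved hq hK b2 _)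
    obtain ⟨c3, e3⟩ := exists_cu hq hK (p := p) 3 y.2.2 (dom_moved hq hK b3 _)
    refine ⟨Fin.cons c0 (Fin.cons c1 (Fin.cons c2 (Fin.cons c3 finZeroElim))), ?_⟩
    rw [← e0, ← e1, ← e2, ← e3]
    rfl
  have hmem : ∀ y : (fixUnits K q × fixUnits K q) × (Kˣ × Kˣ),
      ((RS K).torusHom (tupE6 q (y.1.1 : Kˣ) (y.1.2 : Kˣ) y.2.1 y.2.2) : chevE6.SteinbergGroup K) ∈ cov hq hK :=
    fun y => by
      obtain ⟨x, hx⟩ := hx y
      rw [← hx, ← htor x]
      exact (θ x).2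
  refine (Nat.card_eq_of_bijective (fun y : ↥(psiE6 K q).ker =>
    (⟨⟨_, hmem y.1⟩, (covθ_eq_one hq hK).2 ?_⟩ : ↥(covθ hq hK).ker)) ⟨?_, ?_⟩).symm
  · show stTheta certE6 K ((RS K).torusHom _ : chevE6.SteinbergGroup K) = 1
    rw [stTheta_torusHom, ← psiE6_apply]
    exact MonoidHom.mem_ker.1 y.2
  · intro y y' e
    have h1 := stRel_inj (K := K) (Subtype.ext (congrArg (fun z : ↥(covθ hq hK).ker =>
      ((z : ↥(cov hq hK)) : chevE6.SteinbergGroup K)) e))
    have l : ∀ n, n < 6 → n < chevE6.rank := fun n hn => lt_of_lt_of_eq hn (by decide +kernel)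
    exact Subtype.ext (Prod.ext (Prod.ext (Subtype.ext (congrFun h1 ⟨1, l 1 (by norm_num)⟩))
      (Subtype.ext (congrFun h1 ⟨3, l 3 (by norm_num)⟩)))
      (Prod.ext (congrFun h1 ⟨2, l 2 (by norm_num)⟩) (congrFun h1 ⟨0, l 0 (by norm_num)⟩)))
  · rintro ⟨z, hz⟩
    obtain ⟨u, hu, x, e⟩ :=
      (covSys hq hK p).exists_central_torus hU hp.out (covSys_gen hq hK p) (cker_le_center hq hK hz)
    rw [← hθ] at e
    have e' : (z : chevE6.SteinbergGroup K) =
        ((RS K).torusHom (tt hq hK p x) : chevE6.SteinbergGroup K) * u := by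
      rw [e, Subgroup.coe_mul, htor]
    have hzk := (covθ_eq_one hq hK).1 hz
    rw [e', map_mul, stTheta_torusHom] at hzk
    have hu2 : stTheta certE6 K (u : chevE6.SteinbergGroup K) ∈ (chevRel certE6 K).UP ⊓ (chevRel certE6 K).HS :=
      Subgroup.mem_inf.2 ⟨θ_UP hu, by rw [eq_inv_of_mul_eq_one_right hzk]; exact inv_mem (SetLike.coe_mem _)⟩
    rw [(chevRel certE6 K).UP_inf_HS, Subgroup.mem_bot] at hu2
    have hu1 : (u : chevE6.SteinbergGroup K) = 1 := θ_injOn hu (one_mem _) (by rw [hu2, map_one])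
    rw [hu1, mul_one] at e'
    rw [hu2, mul_one] at hzk
    refine ⟨⟨((⟨cu hq hK p 0 (x 0), (dom_fixed hq hK b0).1 (cu_mem hq hK p 0 (x 0))⟩,
      ⟨cu hq hK p 1 (x 1), (dom_fixed hq hK b1).1 (cu_mem hq hK p 1 (x 1))⟩),
      (cu hq hK p 2 (x 2), cu hq hK p 3 (x 3))), MonoidHom.mem_ker.2 ?_⟩, Subtype.ext (Subtype.ext e'.symm)⟩
    rw [psiE6_apply]
    exact hzk

theorem gcd3_cases (n : ℕ) : Nat.gcd 3 n = 1 ∨ Nat.gcd 3 n = 3 :=
  (Nat.dvd_prime Nat.prime_three).1 (Nat.gcd_dvd_left 3 n)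

theorem cker_isCyclic (p : ℕ) [Fact p.Prime] [CharP K p] : IsCyclic ↥(covθ hq hK).ker := by
  rcases gcd3_cases (q + 1) with h | h
  · have : Subsingleton ↥(covθ hq hK).ker :=
      (Nat.card_eq_one_iff_unique.1 ((card_cker hq hK p).trans h)).1
    exact isCyclic_of_subsingleton
  · have : Fact (Nat.Prime 3) := ⟨Nat.prime_three⟩
    exact isCyclic_of_prime_card ((card_cker hq hK p).trans h)

include hK in
theorem dvd_q (p : ℕ) [hp : Fact p.Prime] [CharP K p] : p ∣ q := by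
  obtain ⟨n, -, hn⟩ := FiniteField.card K p
  refine hp.out.dvd_of_dvd_pow (n := 2) ?_
  rw [← hK, hn]
  exact dvd_pow_self p n.ne_zero

theorem cov_perfect (p : ℕ) [hp : Fact p.Prime] [CharP K p] : commutator ↥(cov hq hK) = ⊤ := by
  have hco : Nat.Coprime (Nat.gcd 3 (q + 1)) p := by
    rcases gcd3_cases (q + 1) with h | h
    · rw [h]; exact Nat.coprime_one_left p
    · rw [h, Nat.coprime_primes Nat.prime_three hp.out]
      rintro rfl
      have h1 := Nat.dvd_sub (h ▸ Nat.gcd_dvd_right 3 (q + 1) : 3 ∣ q + 1) (dvd_q hK 3)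
      norm_num at h1
  have hsup : commutator ↥(cov hq hK) ⊔ (covθ hq hK).ker = ⊤ := by
    rw [← Subgroup.comap_map_eq, commutator_def, Subgroup.map_commutator,
      Subgroup.map_top_of_surjective _ (covθ_surjective hq hK), ← commutator_def,
      show commutator ↥(Tg hq hK) = ⊤ from perfectE6 hq hK, Subgroup.comap_top]
  rw [← top_le_iff]
  refine le_of_eq_of_le Subgroup.closure_closure_coe_preimage.symm ((Subgroup.closure_le _).2 ?_)
  suffices key : ∀ x : ↥(cov hq hK), ∀ r t, t ∈ P hq hK r → (x : chevE6.SteinbergGroup K) = zst hq hK r t →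
      x ∈ commutator ↥(cov hq hK) from fun x ⟨r, t, ht, e⟩ => key x r t ht e
  intro x r t ht e
  rw [← QuotientGroup.eq_one_iff]
  have hxp : x ^ p = 1 := by
    refine Subtype.ext ?_
    rw [SubgroupClass.coe_pow]
    refine (congrArg (· ^ p) e).trans ?_
    have hpow : ∀ n : ℕ, zst hq hK r t ^ n = zst hq hK r ((n : K) * t) := fun n => by
      induction n with
      | zero => simp [zst, fr, Rel.xe_zero]
      | succ n ih => rw [pow_succ, ih, zst_add]; congr 1; push_cast; ring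
    rw [hpow, CharP.cast_eq_zero, zero_mul]
    simp [zst, fr, Rel.xe_zero]
  have hmem : x ∈ commutator ↥(cov hq hK) ⊔ (covθ hq hK).ker := hsup ▸ Subgroup.mem_top x
  obtain ⟨a, ha, z, hz, rfl⟩ := Subgroup.mem_sup_of_normal_left.1 hmem
  have hzg : z ^ Nat.gcd 3 (q + 1) = 1 := by
    rw [← card_cker hq hK p]
    exact congrArg Subtype.val (pow_card_eq_one' (x := (⟨z, hz⟩ : (covθ hq hK).ker)))
  have h1 : ((a * z : ↥(cov hq hK)) : ↥(cov hq hK) ⧸ commutator ↥(cov hq hK)) ^ Nat.gcd 3 (q + 1) = 1 := by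
    rw [QuotientGroup.mk_mul, (QuotientGroup.eq_one_iff a).2 ha, one_mul, ← QuotientGroup.mk_pow, hzg,
      QuotientGroup.mk_one]
  have h2 : ((a * z : ↥(cov hq hK)) : ↥(cov hq hK) ⧸ commutator ↥(cov hq hK)) ^ p = 1 := by
    rw [← QuotientGroup.mk_pow, hxp, QuotientGroup.mk_one]
  have h3 := pow_gcd_eq_one.2 ⟨h1, h2⟩
  rwa [hco.gcd_eq_one, pow_one] at h3

/-- the part of the order prime to the characteristic -/
def ordX (q : ℕ) : ℕ := (q ^ 2 - 1) * (q ^ 5 + 1) * (q ^ 6 - 1) * (q ^ 8 - 1) * (q ^ 9 + 1) * (q ^ 12 - 1)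

include hq in
theorem not_dvd_ordX {p : ℕ} (hp : p.Prime) (hd : p ∣ q) : ¬ p ∣ ordX q := by
  have hm : ∀ n, n ≠ 0 → ¬ p ∣ q ^ n - 1 := fun n hn h => hp.not_dvd_one (by
    have h1 := Nat.dvd_sub (dvd_pow hd hn) h
    rwa [Nat.sub_sub_self (Nat.one_le_pow _ _ hq.pos)] at h1)
  have ha : ∀ n, n ≠ 0 → ¬ p ∣ q ^ n + 1 := fun n hn h =>
    hp.not_dvd_one ((Nat.dvd_add_right (dvd_pow hd hn)).1 h)
  simp only [ordX, hp.dvd_mul, not_or]
  exact ⟨⟨⟨⟨⟨hm 2 two_ne_zero, ha 5 (by norm_num)⟩, hm 6 (by norm_num)⟩, hm 8 (by norm_num)⟩, ha 9 (by norm_num)⟩,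
    hm 12 (by norm_num)⟩

theorem card_cov (p : ℕ) [Fact p.Prime] [CharP K p] : Nat.card ↥(cov hq hK) = q ^ 36 * ordX q := by
  have hfin := cov_finite hq hK
  rw [← (covθ hq hK).ker.card_mul_index, Subgroup.index_ker,
    MonoidHom.range_eq_top.2 (covθ_surjective hq hK), Subgroup.card_top, card_cker hq hK p,
    ← card_twisted certE6 twE6_le (twE6 hq hK) (twE6_P1 hq hK), card_twE6 hq hK, ordX]
  ring

theorem cov_no_stem_ext (h3 : 3 ≤ q) (p : ℕ) [hp : Fact p.Prime] [CharP K p]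
    {Γ : Type u} [Group Γ] [Finite Γ] (σ : Γ →* ↥(cov hq hK)) (hσ : Cfsg.IsStemExtension σ) : σ.ker = ⊥ := by
  have hfin := cov_finite hq hK
  refine Known.RootLift.ker_eq_bot_of_parts p ?_ ?_ σ hσ
  · intro Γ _ _ σ hσ hcop
    exact (covSys hq hK p).ker_eq_bot_of_coprime (cU_isPGroup hq hK) hp.out (covSys_gen hq hK p)
      (covSys_torusFree hq hK p) hσ hcop
  intro Γ _ _ σ hσ hZ
  obtain ⟨hs, hc, hd⟩ := id hσ
  have hperf : commutator Γ = ⊤ := Schur.commutator_eq_top_of_central (cov_perfect hq hK p) σ hs hd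
  have C : Known.SympMult.CExt ((covθ hq hK).comp σ) := ⟨(covθ_surjective hq hK).comp hs, fun g hg => by
    refine Known.StCover.mem_center_of_perfect hperf fun x => hc ?_
    have h1 : σ g ∈ Subgroup.center ↥(cov hq hK) := cker_le_center hq hK hg
    rw [MonoidHom.mem_ker, map_mul, map_mul, map_mul, map_inv, map_inv, ← Subgroup.mem_center_iff.1 h1,
      mul_inv_cancel_right, mul_inv_cancel]⟩
  obtain ⟨M, hM, hcard⟩ := exists_complement hq hK h3 C
  have hcard' : Nat.card ↥(M.map σ) = q ^ 36 := by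
    rw [← hcard, ← Subgroup.map_map]
    refine Nat.card_eq_of_bijective (fun g : ↥(M.map σ) => (⟨covθ hq hK g, g, g.2, rfl⟩ : ↥((M.map σ).map (covθ hq hK))))
      ⟨?_, fun ⟨_, g, hg, e⟩ => ⟨⟨g, hg⟩, Subtype.ext e⟩⟩
    rintro ⟨_, x, hx, rfl⟩ ⟨_, y, hy, rfl⟩ e
    replace e : covθ hq hK (σ x) = covθ hq hK (σ y) := congrArg Subtype.val e
    refine Subtype.ext ?_
    have := hM (x⁻¹ * y) (mul_mem (inv_mem hx) hy) (by
      rw [map_mul, map_inv, MonoidHom.comp_apply, MonoidHom.comp_apply, e, inv_mul_cancel])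
    show σ x = σ y
    rw [inv_mul_eq_one.1 this]
  refine Known.RootLift.ker_eq_bot_of_complement hp.out hσ hZ (U := M.map σ) ?_ (M := M) rfl
    fun x hx h1 => hM x hx (by rw [MonoidHom.comp_apply, h1, map_one])
  have h1 := (M.map σ).card_mul_index
  rw [hcard', card_cov hq hK p] at h1
  rw [Nat.eq_of_mul_eq_mul_left (pow_pos hq.pos 36) h1]
  exact not_dvd_ordX hq hp.out (dvd_q hK p)

include hq hK in
theorem multiplier_twistedE6 (h3 : 3 ≤ q) :
    Cfsg.HasCyclicSchurMultiplier ↥(Cfsg.Lie.twistedE6 K q) (Nat.gcd 3 (q + 1)) := by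
  obtain ⟨p, hp⟩ := CharP.exists K
  have : Fact p.Prime := ⟨CharP.char_is_prime K p⟩
  have hfin := cov_finite hq hK
  have hfinG : Finite (GL chevE6.Idx K) := inferInstance
  let e := Subgroup.subgroupOfEquivOfLe (twE6_le (K := K) (q := q))
  obtain ⟨θ, hθ⟩ : ∃ θ : ↥(cov hq hK) →* ↥(Cfsg.Lie.twistedE6 K q), θ = e.toMonoidHom.comp (covθ hq hK) := ⟨_, rfl⟩
  have hker : θ.ker = (covθ hq hK).ker := by
    ext g
    rw [hθ, MonoidHom.mem_ker, MonoidHom.mem_ker]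
    exact map_eq_one_iff e e.injective
  have hcyc := cker_isCyclic hq hK p
  refine Known.SLn.hasSchurMultiplier_of_cover (cov_perfect hq hK p)
    (fun Γ _ _ σ hσ => cov_no_stem_ext hq hK h3 p σ hσ) θ (hθ ▸ e.surjective.comp (covθ_surjective hq hK))
    (hker ▸ cker_le_center hq hK) ((MulEquiv.subgroupCongr hker).trans (mulEquivOfCyclicCardEq ?_))
  rw [card_cker hq hK p]
  exact (Nat.card_zmod _).symm

end CfsgLib.Lie.Chev.TwGroups.E6Mult
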