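import Cfsg.Agent.Lib.Lie.Twisted.E6Mult.Tor

/-!
# Certificates for the lifted root families of the twisted groups of type E6
-/

set_option autoImplicit false
set_option maxHeartbeats 0
set_option maxRecDepth 20000

namespace CfsgLib.Lie.Chev.TwGroups.E6Mult

open Cfsg.Lie (chevE6)
open CfsgLib.PLocal CfsgLib.PLocal.RadTw

/-- the cocharacters tried -/
def cands : List ℕ := List.range' 36 36

/-- two commuting orbits separated by the torus -/
def LCOK (x y : ℕ) : Prop := CT x y [] ∧ ∃ n ∈ cands, Sep n x y ∨ Sep n y x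

instance (x y : ℕ) : Decidable (LCOK x y) := by unfold LCOK; infer_instance

/-- representatives of the positive orbits -/
def posR : List ℕ := cands.filter fun r => r ≤ bar r

/-- the orbits in the pairwise commutators of two orbits -/
def termsP (a b : ℕ) : List ℕ :=
  ((([a, bar a]).flatMap fun x => ([b, bar b]).flatMap fun y => (chevE6.commTerms x y).map Prod.fst).map
    fun c => min c (bar c)).dedup

/-- the orbits in the commutators of two orbits -/
def termsL (a b : ℕ) : List ℕ :=
  (termsP a b ++ (termsP a b).flatMap fun e => termsP a e ++ termsP b e).dedup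

/-- the orbits of the listed roots -/
def flatL (L : List ℕ) : List ℕ := L.flatMap cl

/-- the shape of the list of terms -/
def ShapeOK : List ℕ → Prop
  | [] => True
  | [_] => True
  | [k, k'] => Split k k'
  | _ => False

instance : DecidablePred ShapeOK := fun L => by
  match L with
  | [] => exact inferInstanceAs (Decidable True)
  | [_] => exact inferInstanceAs (Decidable True)
  | [k, k'] => exact inferInstanceAs (Decidable (Split k k'))
  | _ :: _ :: _ :: _ => exact inferInstanceAs (Decidable False)

/-- the moving orbit `m` is separated from `f` and commutes with the terms -/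
def MoveOK (m f : ℕ) (L : List ℕ) : Prop := (∃ n ∈ cands, Sep n m f) ∧ ∀ e ∈ L, LCOK m e

instance (m f : ℕ) (L : List ℕ) : Decidable (MoveOK m f L) := by unfold MoveOK; infer_instance

/-- the check of a pair of positive orbits -/
def PairOK (a b : ℕ) : Prop :=
  (∀ e ∈ termsL a b, a < e ∧ e ∈ posR) ∧ CT a b (flatL (termsL a b)) ∧ Nm a (flatL (termsL a b)) ∧
    Nm b (flatL (termsL a b)) ∧ ShapeOK (termsL a b) ∧
    (MoveOK a b (termsL a b) ∨ MoveOK b a (termsL a b))

instance (a b : ℕ) : Decidable (PairOK a b) := by unfold PairOK; infer_instance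

theorem pair_ok : ∀ a ∈ posR, ∀ b ∈ posR, a < b → PairOK a b := by decide +kernel

/-- each orbit with two orbits producing it -/
def selfT : List (ℕ × ℕ × ℕ) :=
  [(36, 4, 66), (37, 7, 55), (38, 7, 66), (39, 2, 70), (40, 9, 55), (41, 9, 66), (44, 6, 70), (45, 10, 66),
   (46, 1, 71), (47, 2, 71), (48, 12, 55), (49, 12, 66), (51, 6, 71), (52, 13, 66), (53, 8, 71), (54, 14, 66),
   (55, 15, 66), (60, 18, 70), (63, 18, 71), (65, 20, 71), (66, 36, 55), (69, 24, 71), (70, 25, 71), (71, 46, 70)]

/-- the root `a` is produced by `c` and `d` up to the twist -/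
def Gen2 (c d a : ℕ) : Prop :=
  (c < chevE6.nroots ∧ d < chevE6.nroots) ∧ (Pair c d a ∨ Pair d c a ∨ Pair c d (bar a) ∨ Pair d c (bar a) ∨
    Pair c (bar d) a ∨ Pair (bar d) c a ∨ Pair c (bar d) (bar a) ∨ Pair (bar d) c (bar a)) ∧ LCOK c a ∧ LCOK d a

instance (c d a : ℕ) : Decidable (Gen2 c d a) := by unfold Gen2; infer_instance

theorem self_ok : ∀ x ∈ selfT, Gen2 x.2.1 x.2.2 x.1 := by decide +kernel

theorem self_all : ∀ a ∈ posR, a ∈ selfT.map Prod.fst := by decide +kernel

theorem fpf_ok : ∀ a ∈ posR, ∃ n ∈ cands, Small n a := by decide +kernel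

theorem posR_iff : ∀ r < chevE6.nroots, r ∈ posR ↔ (half chevE6 ≤ r ∧ r ≤ bar r) := by decide +kernel

end CfsgLib.Lie.Chev.TwGroups.E6Mult
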