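import Cfsg.Agent.Lib.PLocal.RadTw.Cells
import Cfsg.Agent.Lib.Lie.Rel.Steinberg
import Cfsg.Agent.Lib.Lie.Rel.EmbedData
import Cfsg.Agent.Lib.Lie.Twisted.E6Mult.Cert

/-!
# The preimage of the twisted group of type E6 in Steinberg's group
-/

set_option autoImplicit false
set_option linter.unusedSectionVars false

namespace CfsgLib.Lie.Chev.TwGroups.E6Mult

open Cfsg.Lie (chevE6)
open CfsgLib.PLocal CfsgLib.PLocal.RadTw

theorem gW_ok : ∀ k : Fin 4, ∀ r < chevE6.nroots, gW k r < chevE6.nroots ∧ gW k (gW k r) = r ∧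
    bar (gW k r) = gW k (bar r) := by decide +kernel

theorem neg_ok : ∀ r < chevE6.nroots, bar (chevE6.neg r) = chevE6.neg (bar r) ∧ sgn (chevE6.neg r) = sgn r := by
  decide +kernel

/-- the relative simple roots -/
def simL : List ℕ := [46, 39, 42, 56]

theorem sim_ok : ∀ k : Fin 4, simL.getD k 0 < chevE6.nroots ∧ half chevE6 ≤ simL.getD k 0 ∧
    sgn (simL.getD k 0) = 1 ∧ gW k (simL.getD k 0) = chevE6.neg (simL.getD k 0) := by decide +kernel

/-- the simple reflections under a relative one -/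
def idL : List (ℕ × ℕ) := [(1, 1), (3, 3), (2, 4), (0, 5)]

theorem id_ok : ∀ k : Fin 4, (idL.getD k (0, 0)).1 < chevE6.rank ∧ (idL.getD k (0, 0)).2 < chevE6.rank ∧
    chevE6.simple (idL.getD k (0, 0)).1 = simL.getD k 0 ∧
    chevE6.simple (idL.getD k (0, 0)).2 = bar (simL.getD k 0) := by decide +kernel

theorem perm1_ok : ∀ k : Fin 4, bar (simL.getD k 0) = simL.getD k 0 → ∀ r < chevE6.nroots,
    auxE6.w (idL.getD k (0, 0)).1 r = gW k r := by decide +kernel

theorem perm2_ok : ∀ k : Fin 4, bar (simL.getD k 0) ≠ simL.getD k 0 →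
    (∀ r < chevE6.nroots, auxE6.w (idL.getD k (0, 0)).1 (auxE6.w (idL.getD k (0, 0)).2 r) = gW k r) ∧
    auxE6.eta (idL.getD k (0, 0)).2 (simL.getD k 0) = 1 ∧
    chevE6.cartan (idL.getD k (0, 0)).2 (simL.getD k 0) = 0 ∧
    auxE6.w (idL.getD k (0, 0)).2 (simL.getD k 0) = simL.getD k 0 ∧
    Rad.Terms chevE6 (simL.getD k 0) (bar (simL.getD k 0)) [] ∧
    Rad.Terms chevE6 (simL.getD k 0) (chevE6.neg (bar (simL.getD k 0))) [] ∧
    Rad.Terms chevE6 (chevE6.neg (simL.getD k 0)) (bar (simL.getD k 0)) [] ∧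
    Rad.Terms chevE6 (chevE6.neg (simL.getD k 0)) (chevE6.neg (bar (simL.getD k 0))) [] := by decide +kernel

/-- the relative simple root of `k` -/
def sim (k : Fin 4) : Rt := ⟨simL.getD k 0, (sim_ok k).1⟩

theorem sgn_sim (k : Fin 4) : sgn (sim k) = 1 := (sim_ok k).2.2.1

/-- the relative simple reflection on roots -/
def sW (k : Fin 4) : Equiv.Perm Rt :=
  Function.Involutive.toPerm (fun r => ⟨gW k r, (gW_ok k r r.2).1⟩) fun r => Fin.ext (gW_ok k r r.2).2.1

theorem sW_val (k : Fin 4) (r : Rt) : ((sW k r : Rt) : ℕ) = gW k r := rfl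

theorem sW_sW (k : Fin 4) (r : Rt) : sW k (sW k r) = r := Fin.ext (gW_ok k r r.2).2.1

theorem barF_sW (k : Fin 4) (r : Rt) : barF (sW k r) = sW k (barF r) := Fin.ext (gW_ok k r r.2).2.2

theorem bar_sW_eq (k : Fin 4) (r : Rt) : bar (sW k r) = (sW k r : ℕ) ↔ bar r = r := by
  rw [bar_eq_iff, bar_eq_iff, barF_sW, (sW k).injective.eq_iff]

/-- the negative of a root -/
def ng (r : Rt) : Rt := (chevRel certE6 ℚ).negF r

theorem ng_val (r : Rt) : ((ng r : Rt) : ℕ) = chevE6.neg r := rfl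

theorem ng_ng (r : Rt) : ng (ng r) = r := (chevRel certE6 ℚ).negF_negF r

theorem barF_ng (r : Rt) : barF (ng r) = ng (barF r) := Fin.ext (neg_ok r r.2).1

theorem sgn_ng (r : Rt) : sgn (ng r : ℕ) = sgn r := (neg_ok r r.2).2

theorem bar_ng_eq (r : Rt) : bar (ng r) = (ng r : ℕ) ↔ bar r = r := by
  rw [bar_eq_iff, bar_eq_iff, barF_ng]
  exact (Function.Involutive.injective ng_ng).eq_iff

theorem sW_sim (k : Fin 4) : sW k (sim k) = ng (sim k) := Fin.ext (sim_ok k).2.2.2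

section Pair

variable {F : Type*} [Field F] [Fintype F] {G : Type*} [Group G] (R : Rel chevE6 auxE6 F G)

theorem xe_comm_of_terms {a b : ℕ} (h : Rad.Terms chevE6 a b []) (t u : F) : Commute (R.xe a t) (R.xe b u) := by
  obtain ⟨e, he, e'⟩ := h.swap R (H := ⊥) (fun _ h => absurd h List.not_mem_nil) t u
  rw [Subgroup.mem_bot.1 he, mul_one] at e'
  exact e'.symm

theorem ne_comm_xe {a b : ℕ} (h1 : Rad.Terms chevE6 a b []) (h2 : Rad.Terms chevE6 (chevE6.neg a) b []) (t u : F) :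
    Commute (R.ne a t) (R.xe b u) :=
  ((xe_comm_of_terms R h1 _ _).mul_left (xe_comm_of_terms R h2 _ _)).mul_left (xe_comm_of_terms R h1 _ _)

theorem ne_comm_ne {a b : ℕ} (h1 : Rad.Terms chevE6 a b []) (h2 : Rad.Terms chevE6 a (chevE6.neg b) [])
    (h3 : Rad.Terms chevE6 (chevE6.neg a) b []) (h4 : Rad.Terms chevE6 (chevE6.neg a) (chevE6.neg b) [])
    (t u : F) : Commute (R.ne a t) (R.ne b u) :=
  ((ne_comm_xe R h1 h3 _ _).mul_right (ne_comm_xe R h2 h4 _ _)).mul_right (ne_comm_xe R h1 h3 _ _)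

theorem pair_ne {a b : ℕ} (h1 : Rad.Terms chevE6 a b []) (h2 : Rad.Terms chevE6 a (chevE6.neg b) [])
    (h3 : Rad.Terms chevE6 (chevE6.neg a) b []) (t u : F) :
    R.xe a t * R.xe b u * (R.xe (chevE6.neg a) (-t⁻¹) * R.xe (chevE6.neg b) (-u⁻¹)) * (R.xe a t * R.xe b u) =
      R.ne a t * R.ne b u := by
  have c1 : Commute (R.xe b u) (R.xe (chevE6.neg a) (-t⁻¹)) := (xe_comm_of_terms R h3 _ _).symm
  have c2 : Commute (R.xe b u) (R.xe a t) := (xe_comm_of_terms R h1 _ _).symm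
  have c3 : Commute (R.xe (chevE6.neg b) (-u⁻¹)) (R.xe a t) := (xe_comm_of_terms R h2 _ _).symm
  show _ = R.xe a t * R.xe (chevE6.neg a) (-t⁻¹) * R.xe a t * (R.xe b u * R.xe (chevE6.neg b) (-u⁻¹) * R.xe b u)
  rw [← mul_assoc (R.xe a t * R.xe b u) (R.xe (chevE6.neg a) _), mul_assoc (R.xe a t), c1.eq]
  simp only [mul_assoc]
  congr 2
  rw [← mul_assoc (R.xe (chevE6.neg b) _) (R.xe a t), c3.eq]
  simp only [mul_assoc]
  rw [← mul_assoc (R.xe b u) (R.xe a t), c2.eq]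
  simp only [mul_assoc]

end Pair

variable {K : Type*} [Field K] [Fintype K] {q : ℕ} (hq : IsPrimePow q) (hK : Fintype.card K = q ^ 2)

/-- Steinberg's group of type E6 as a relation system -/
noncomputable abbrev RS (K : Type*) [Field K] : Rel chevE6 auxE6 K (chevE6.SteinbergGroup K) :=
  stRel certE6 K witE6

/-- the root family in Steinberg's group -/
noncomputable def zst (r : Rt) (t : K) : chevE6.SteinbergGroup K :=
  (RS K).xe r t * (if bar r = r then 1 else (RS K).xe (barF r : ℕ) (fr hq hK r t))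

theorem θ_zst (r : Rt) (t : K) : stTheta certE6 K (zst hq hK r t) = zval hq hK r t := by
  show stTheta certE6 K (chevE6.stGen K r t * _) = _
  rw [zval, map_mul, stTheta_gen]
  split_ifs
  · rw [map_one]
  · exact congrArg _ (stTheta_gen certE6 K _ _)

theorem zst_comm (r : Rt) (h : bar r ≠ r) (t u : K) :
    Commute ((RS K).xe r t) ((RS K).xe (barF r : ℕ) u) :=
  xe_comm_of_terms _ ((basicOK r r.2).2.2.2.2.2.2.resolve_left h) t u

theorem zst_add (r : Rt) (t u : K) : zst hq hK r t * zst hq hK r u = zst hq hK r (t + u) := by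
  unfold zst
  split_ifs with h
  · rw [mul_one, mul_one, mul_one, (RS K).xe_add']
  · rw [fr_add, ← (RS K).xe_add', ← (RS K).xe_add', mul_assoc, mul_assoc, ← mul_assoc ((RS K).xe (barF r : ℕ) _),
      ← (zst_comm r h u _).eq, mul_assoc]

theorem zst_bar (r : Rt) (h : bar r ≠ r) (t : K) : zst hq hK (barF r) (fr hq hK r t) = zst hq hK r t := by
  have h' : bar (barF r : ℕ) ≠ (barF r : ℕ) := fun e => h (by
    rw [bar_eq_iff, barF_barF] at e; rw [bar_eq_iff]; exact e.symm)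
  rw [zst, zst, if_neg h, if_neg h', barF_barF, fr_fr]
  exact (zst_comm r h _ _).symm.eq

/-- the generators of the preimage -/
def covGens : Set (chevE6.SteinbergGroup K) := {g | ∃ r, ∃ t ∈ P hq hK r, g = zst hq hK r t}

/-- the preimage of the twisted group -/
noncomputable def cov : Subgroup (chevE6.SteinbergGroup K) := Subgroup.closure (covGens hq hK)

theorem zst_mem {r : Rt} {t : K} (ht : t ∈ P hq hK r) : zst hq hK r t ∈ cov hq hK :=
  Subgroup.subset_closure ⟨r, t, ht, rfl⟩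

theorem θ_mem {g : chevE6.SteinbergGroup K} (hg : g ∈ cov hq hK) : stTheta certE6 K g ∈ Tg hq hK := by
  refine ((Subgroup.closure_le ((Tg hq hK).comap (stTheta certE6 K))).2 ?_) hg
  rintro _ ⟨r, t, ht, rfl⟩
  show stTheta certE6 K _ ∈ Tg hq hK
  rw [θ_zst]
  exact (Z hq hK r ⟨t, ht⟩).2

/-- the covering map -/
noncomputable def covθ : ↥(cov hq hK) →* ↥(Tg hq hK) :=
  ((stTheta certE6 K).comp (cov hq hK).subtype).codRestrict (Tg hq hK) fun g => θ_mem hq hK g.2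

theorem covθ_val (g : ↥(cov hq hK)) : ((covθ hq hK g : ↥(Tg hq hK)) : ↥(chevE6.group K)) = stTheta certE6 K g :=
  rfl

theorem word_ok :
    (bar Cfsg.Lie.e6p2 = Cfsg.Lie.e6p2 ∧ bar Cfsg.Lie.e6m2 = Cfsg.Lie.e6m2 ∧ bar Cfsg.Lie.e6p4 = Cfsg.Lie.e6p4 ∧
      bar Cfsg.Lie.e6m4 = Cfsg.Lie.e6m4) ∧
    ∀ p ∈ [(Cfsg.Lie.e6p1, Cfsg.Lie.e6p6), (Cfsg.Lie.e6m1, Cfsg.Lie.e6m6), (Cfsg.Lie.e6p3, Cfsg.Lie.e6p5),
      (Cfsg.Lie.e6m3, Cfsg.Lie.e6m5)], p.1 < chevE6.nroots ∧ bar p.1 = p.2 ∧ sgn p.1 = 1 ∧ p.2 ≠ p.1 := by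
  decide +kernel

theorem covθ_surjective : Function.Surjective (covθ hq hK) := by
  have hle : Tg hq hK ≤ (cov hq hK).map (stTheta certE6 K) := by
    show (Cfsg.Lie.twistedE6 K q).subgroupOf (chevE6.group K) ≤ _
    rw [show Cfsg.Lie.twistedE6 K q = chevE6.genSubgroup K (Cfsg.Lie.e6Words K q) from rfl,
      genSubgroup_subgroupOf certE6, Subgroup.closure_le]
    rintro _ ⟨w, hw, rfl⟩
    obtain ⟨⟨f1, f2, f3, f4⟩, hp⟩ := word_ok
    rcases hw with ⟨t, ht, r, hr, rfl⟩ | ⟨t, rs, hrs, rfl⟩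
    · have hlt : r < chevE6.nroots := by
        simp only [List.mem_cons, List.not_mem_nil, or_false] at hr
        rcases hr with rfl | rfl | rfl | rfl <;> decide +kernel
      have hb : bar r = r := by
        simp only [List.mem_cons, List.not_mem_nil, or_false] at hr
        rcases hr with rfl | rfl | rfl | rfl <;> assumption
      refine ⟨_, zst_mem hq hK (r := ⟨r, hlt⟩) (t := t) (fun _ => by rw [frE6_apply, ht]), ?_⟩
      rw [θ_zst, zval, if_pos (show bar ((⟨r, hlt⟩ : Rt) : ℕ) = _ from hb), mul_one, wordG_one_eq]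
    · obtain ⟨hlt, hb, hs, hne⟩ := hp _ hrs
      refine ⟨_, zst_mem hq hK (r := ⟨rs.1, hlt⟩) (t := t)
        (fun e => absurd (hb.symm.trans e) hne), ?_⟩
      rw [θ_zst, zval, if_neg (show bar ((⟨rs.1, hlt⟩ : Rt) : ℕ) ≠ rs.1 from hb ▸ hne), wordG_two_eq,
        show fr hq hK ((⟨rs.1, hlt⟩ : Rt) : ℕ) t = t ^ q by simp [fr, hs, frE6_apply],
        show ((barF ⟨rs.1, hlt⟩ : Rt) : ℕ) = rs.2 from hb]
  rintro ⟨g, hg⟩
  obtain ⟨x, hx, e⟩ := hle hg
  exact ⟨⟨x, hx⟩, Subtype.ext e⟩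

/-! ### Weyl elements -/

theorem fr_sim (k : Fin 4) (c : K) : fr hq hK (sim k : ℕ) c = c ^ q := by
  simp [fr, sgn_sim k, frE6_apply]

theorem fr_ng_sim (k : Fin 4) (c : K) : fr hq hK (ng (sim k) : ℕ) (-c⁻¹) = -(c ^ q)⁻¹ := by
  simp [fr, sgn_ng, sgn_sim k, frE6_apply, map_neg, map_inv₀, inv_pow, neg_pow_E6 hq hK]

/-- the Weyl element in Steinberg's group -/
noncomputable def nst (k : Fin 4) (c : K) : chevE6.SteinbergGroup K :=
  zst hq hK (sim k) c * zst hq hK (ng (sim k)) (-c⁻¹) * zst hq hK (sim k) c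

theorem nst_fixed {k : Fin 4} (h : bar (sim k) = sim k) (c : K) : nst hq hK k c = (RS K).ne (sim k) c := by
  rw [nst, zst, zst, if_pos h, if_pos ((bar_ng_eq _).2 h), mul_one, mul_one]
  rfl

theorem nst_pair {k : Fin 4} (h : bar (sim k) ≠ sim k) (c : K) :
    nst hq hK k c = (RS K).ne (sim k) c * (RS K).ne (barF (sim k) : ℕ) (c ^ q) := by
  obtain ⟨-, -, -, -, t1, t2, t3, -⟩ := perm2_ok k h
  rw [nst, zst, zst, if_neg h, if_neg (fun e => h ((bar_ng_eq _).1 e)), barF_ng, fr_sim, fr_ng_sim]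
  exact pair_ne _ t1 t2 t3 c (c ^ q)

/-- the simple root index -/
def id1 (k : Fin 4) : Fin chevE6.rank := ⟨(idL.getD k (0, 0)).1, (id_ok k).1⟩

/-- the second simple root index -/
def id2 (k : Fin 4) : Fin chevE6.rank := ⟨(idL.getD k (0, 0)).2, (id_ok k).2.1⟩

theorem simple_id1 (k : Fin 4) : chevE6.simple (id1 k) = (sim k : ℕ) := (id_ok k).2.2.1

theorem simple_id2 (k : Fin 4) : chevE6.simple (id2 k) = (barF (sim k) : ℕ) := (id_ok k).2.2.2

theorem nst_isMon (k : Fin 4) {c : K} (hc : c ≠ 0) :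
    ∃ μ, (RS K).IsMon (nst hq hK k c) (sW k) μ ∧ μ (sim k) = -(c ^ 2)⁻¹ := by
  have self : ∀ (i : Fin chevE6.rank) (d : K),
      (auxE6.eta i (chevE6.simple i) : K) * d ^ (-(chevE6.cartan i (chevE6.simple i))) = -(d ^ 2)⁻¹ := fun i d => by
    rw [certE6.eta_simple i.2, certE6.cartan_simple i.2, zpow_neg, zpow_two, sq]
    simp
  by_cases h : bar (sim k) = sim k
  · have hσ : (RS K).wperm (id1 k) = sW k := Equiv.ext fun r => Fin.ext (perm1_ok k h r r.2)
    refine ⟨fun r => (auxE6.eta (id1 k) r : K) * c ^ (-(chevE6.cartan (id1 k) r)), ?_, ?_⟩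
    · rw [nst_fixed hq hK h, ← simple_id1, ← hσ]
      exact (RS K).isMon_ne_simple (id1 k) hc
    · show (auxE6.eta (id1 k) ((sim k : Rt) : ℕ) : K) * _ = _
      rw [← simple_id1, self]
  · obtain ⟨hp, he, hcart, hw, -⟩ := perm2_ok k h
    have hσ : (RS K).wperm (id1 k) * (RS K).wperm (id2 k) = sW k := Equiv.ext fun r => Fin.ext (hp r r.2)
    have hM := (RS K).isMon_mul ((RS K).isMon_ne_simple (id1 k) hc)
      ((RS K).isMon_ne_simple (id2 k) (pow_ne_zero q hc))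
    rw [hσ, simple_id1, simple_id2, ← nst_pair hq hK h] at hM
    refine ⟨_, hM, ?_⟩
    have hfix : (RS K).wperm (id2 k) (sim k) = sim k := Fin.ext hw
    simp only [hfix]
    rw [show auxE6.eta (id2 k) (sim k : ℕ) = 1 from he, show chevE6.cartan (id2 k) (sim k : ℕ) = 0 from hcart,
      neg_zero, zpow_zero, Int.cast_one, mul_one, mul_one, ← simple_id1, self]

theorem nst_mem (k : Fin 4) {c : K} (hc : c ∈ P hq hK (sim k)) : nst hq hK k c ∈ cov hq hK := by
  refine mul_mem (mul_mem (zst_mem hq hK hc) (zst_mem hq hK fun h => ?_)) (zst_mem hq hK hc)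
  rw [map_neg, map_inv₀, hc ((bar_ng_eq _).1 h)]

/-- monomial elements of the preimage permute the families -/
theorem conj_zst {g : chevE6.SteinbergGroup K} (hg : g ∈ cov hq hK) {k : Fin 4} {μ : Rt → K}
    (hM : (RS K).IsMon g (sW k) μ) (a : Rt) :
    μ a ∈ P hq hK a ∧ ∀ t ∈ P hq hK a, g * zst hq hK a t * g⁻¹ = zst hq hK (sW k a) (μ a * t) := by
  obtain ⟨n, hn⟩ : ∃ n, n = stTheta certE6 K g := ⟨_, rfl⟩
  have hσ : ∀ t ∈ P hq hK a, σE6 hq hK (stTheta certE6 K (g * zst hq hK a t * g⁻¹)) =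
      stTheta certE6 K (g * zst hq hK a t * g⁻¹) := fun t ht =>
    (twE6 hq hK).hfix _ (θ_mem hq hK (mul_mem (mul_mem hg (zst_mem hq hK ht)) (inv_mem hg)))
  by_cases h : bar a = a
  · have hs : bar (sW k a) = (sW k a : ℕ) := (bar_sW_eq k a).2 h
    have e : ∀ t, g * zst hq hK a t * g⁻¹ = zst hq hK (sW k a) (μ a * t) := fun t => by
      rw [zst, zst, if_pos h, if_pos hs, mul_one, mul_one]
      exact (hM a).2.2.2 t
    have fixed : ∀ t ∈ P hq hK a, frE6 hq hK (μ a * t) = μ a * t := fun t ht => by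
      have h1 := hσ t ht
      rw [e, θ_zst, zval, if_pos hs, mul_one, σ_xG, fr_fixed hq hK hs,
        show ((barF (sW k a) : Rt) : ℕ) = (sW k a : ℕ) from hs] at h1
      exact (chevRel certE6 K).xe_inj_param (r := sW k a) h1
    refine ⟨fun _ => ?_, fun t _ => e t⟩
    simpa using fixed 1 (P_one hq hK)
  · have hs : bar (sW k a) ≠ (sW k a : ℕ) := fun e => h ((bar_sW_eq k a).1 e)
    refine ⟨fun e => absurd e h, fun t ht => ?_⟩
    have e : g * zst hq hK a t * g⁻¹ = (RS K).xe (sW k a : ℕ) (μ a * t) *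
        (RS K).xe (barF (sW k a) : ℕ) (μ (barF a) * fr hq hK a t) := by
      rw [zst, if_neg h, barF_sW, ← (hM a).2.2.2 t, ← (hM (barF a)).2.2.2]
      group
    have h1 := hσ t ht
    rw [e, map_mul, show stTheta certE6 K ((RS K).xe (sW k a : ℕ) (μ a * t)) = xG certE6 K (sW k a : ℕ) (μ a * t)
        from stTheta_gen certE6 K _ _,
      show stTheta certE6 K ((RS K).xe (barF (sW k a) : ℕ) (μ (barF a) * fr hq hK a t)) =
        xG certE6 K (barF (sW k a) : ℕ) (μ (barF a) * fr hq hK a t) from stTheta_gen certE6 K _ _] at h1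
    have hmem : xG certE6 K (sW k a : ℕ) (μ a * t) *
        xG certE6 K (barF (sW k a) : ℕ) (μ (barF a) * fr hq hK a t) ∈ (chevRel certE6 K).US (orb (sW k a)) :=
      mul_mem ((chevRel certE6 K).xe_mem_US (Or.inl rfl) _) ((chevRel certE6 K).xe_mem_US (Or.inr rfl) _)
    obtain ⟨v, hv⟩ := exists_Z hq hK (r := sW k a) (g := ⟨_, mem_Tg_of_fixed hq hK hmem h1⟩) hmem
    have h2 : zval hq hK (sW k a) v = _ := (congrArg Subtype.val hv).symm
    have hv' := Z_coord hq hK h2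
    rw [if_neg hs] at hv'
    rw [zval, if_neg hs, hv'] at h2
    rw [e, zst, if_neg hs]
    congr 2
    exact ((chevRel certE6 K).xe_inj_param (r := barF (sW k a)) (mul_left_cancel h2)).symm

end CfsgLib.Lie.Chev.TwGroups.E6Mult
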