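import Cfsg.Agent.Lib.Lie.Twisted.E6Mult.Cover
import Cfsg.Agent.Lib.Known.RootLiftF.Main
import Cfsg.Agent.Lib.Lie.Rel.StCenter
import Cfsg.Agent.Lib.Lie.Rel.Sylow

/-!
# The root system of subgroups of the covering group of the twisted group of type E6
-/

set_option autoImplicit false
set_option linter.unusedSectionVars false

namespace CfsgLib.Lie.Chev.TwGroups.E6Mult

open Cfsg.Lie (chevE6)
open CfsgLib.PLocal CfsgLib.PLocal.RadTw
open CfsgLib.Known.RootLiftF (Sys)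

theorem flip_ok : ∀ k : Fin 4, ∀ r < chevE6.nroots, half chevE6 ≤ r → ¬ half chevE6 ≤ gW k r →
    r = simL.getD k 0 ∨ r = bar (simL.getD k 0) := by decide +kernel

theorem down_ok : ∀ r < half chevE6, ∃ k : Fin 4, r < gW k r := by decide +kernel

theorem simple6 : ∀ i : Fin chevE6.rank, i = id1 0 ∨ i = id1 1 ∨ i = id1 2 ∨ i = id2 2 ∨ i = id1 3 ∨ i = id2 3 := by
  decide +kernel

theorem bar_sim_ok : (bar (sim 0) = sim 0 ∧ bar (sim 1) = sim 1) ∧ bar (sim 2) ≠ sim 2 ∧ bar (sim 3) ≠ sim 3 := by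
  decide +kernel

theorem id_vals : ((id1 0 : ℕ) = 1 ∧ (id1 1 : ℕ) = 3) ∧ ((id1 2 : ℕ) = 2 ∧ (id2 2 : ℕ) = 4) ∧
    ((id1 3 : ℕ) = 0 ∧ (id2 3 : ℕ) = 5) := by decide +kernel

variable {K : Type*} [Field K] [Fintype K] {q : ℕ} (hq : IsPrimePow q) (hK : Fintype.card K = q ^ 2)

/-- the parameters of a family -/
noncomputable def dom (a : Rt) : Subfield K :=
  if bar a = a then (frE6 hq hK).eqLocusField (RingHom.id K) else ⊤

theorem mem_dom {a : Rt} {t : K} : t ∈ dom hq hK a ↔ t ∈ P hq hK a := by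
  show t ∈ dom hq hK a ↔ (bar a = a → frE6 hq hK t = t)
  unfold dom
  split_ifs with h
  · exact ⟨fun e _ => e, fun e => e h⟩
  · exact ⟨fun _ e => absurd e h, fun _ => Subfield.mem_top t⟩

theorem dom_eq_of_iff {a b : Rt} (h : bar a = a ↔ bar b = b) : dom hq hK a = dom hq hK b := by
  unfold dom
  by_cases ha : bar a = a
  · rw [if_pos ha, if_pos (h.1 ha)]
  · rw [if_neg ha, if_neg (fun e => ha (h.2 e))]

theorem dom_sW (k : Fin 4) (a : Rt) : dom hq hK (sW k a) = dom hq hK a := dom_eq_of_iff hq hK (bar_sW_eq k a)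

theorem dom_ng (a : Rt) : dom hq hK (ng a) = dom hq hK a := dom_eq_of_iff hq hK (bar_ng_eq a)

/-- the families in the covering group -/
noncomputable def cR (a : Rt) (t : K) : ↥(cov hq hK) :=
  haveI := fun P : Prop => _root_.Classical.propDecidable P
  if h : t ∈ dom hq hK a then ⟨zst hq hK a t, zst_mem hq hK ((mem_dom hq hK).1 h)⟩ else 1

theorem cR_val {a : Rt} {t : K} (h : t ∈ dom hq hK a) :
    ((cR hq hK a t : ↥(cov hq hK)) : chevE6.SteinbergGroup K) = zst hq hK a t := by rw [cR, dif_pos h]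

theorem cR_out {a : Rt} {t : K} (h : t ∉ dom hq hK a) : cR hq hK a t = 1 := by rw [cR, dif_neg h]

theorem cR_add (a : Rt) (t u : K) (ht : t ∈ dom hq hK a) (hu : u ∈ dom hq hK a) :
    cR hq hK a t * cR hq hK a u = cR hq hK a (t + u) :=
  Subtype.ext (by rw [Subgroup.coe_mul, cR_val hq hK ht, cR_val hq hK hu, cR_val hq hK (add_mem ht hu), zst_add])

/-- the positive unipotent subgroup -/
noncomputable def cU : Subgroup ↥(cov hq hK) := (RS K).UP.subgroupOf (cov hq hK)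

theorem mem_cU {g : ↥(cov hq hK)} : g ∈ cU hq hK ↔ (g : chevE6.SteinbergGroup K) ∈ (RS K).UP := Iff.rfl

theorem θ_xe (r : ℕ) (t : K) : stTheta certE6 K ((RS K).xe r t) = xG certE6 K r t := stTheta_gen certE6 K r t

theorem θ_US (S : Set Rt) : ((RS K).US S).map (stTheta certE6 K) = (chevRel certE6 K).US S := by
  rw [Rel.US, MonoidHom.map_closure, Rel.US]
  congr 1
  ext g
  constructor
  · rintro ⟨_, ⟨r, hr, t, rfl⟩, rfl⟩; exact ⟨r, hr, t, θ_xe _ _⟩
  · rintro ⟨r, hr, t, rfl⟩; exact ⟨_, ⟨r, hr, t, rfl⟩, θ_xe _ _⟩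

theorem θ_UP {g : chevE6.SteinbergGroup K} (hg : g ∈ (RS K).UP) : stTheta certE6 K g ∈ (chevRel certE6 K).UP :=
  (θ_US (K := K) (posSet chevE6)).le ⟨g, hg, rfl⟩

theorem θ_injOn {g h : chevE6.SteinbergGroup K} (hg : g ∈ (RS K).UP) (hh : h ∈ (RS K).UP)
    (e : stTheta certE6 K g = stTheta certE6 K h) : g = h :=
  (RS K).θ_injOn_UP hg hh (congrArg (chevE6.group K).subtype e)

theorem cU_isPGroup {p : ℕ} [Fact p.Prime] [CharP K p] : IsPGroup p (cU hq hK) := by
  obtain ⟨n, -, hn⟩ := FiniteField.card K p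
  have hU : IsPGroup p (chevRel certE6 K).UP := IsPGroup.of_card (n := (n : ℕ) * half chevE6) (by
    rw [← Nat.card_congr (UPEquiv certE6 K), Nat.card_fun, Nat.card_eq_fintype_card, Nat.card_eq_fintype_card,
      Fintype.card_fin, hn, ← pow_mul])
  let f : ↥(cU hq hK) →* ↥(chevRel certE6 K).UP :=
    ((stTheta certE6 K).comp ((cov hq hK).subtype.comp (cU hq hK).subtype)).codRestrict _ fun g => θ_UP g.2
  refine hU.of_injective f fun a b e => Subtype.ext (Subtype.ext (θ_injOn a.2 b.2 (congrArg Subtype.val e)))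

theorem cR_mem {a : Rt} (ha : half chevE6 ≤ (a : ℕ)) (t : K) : cR hq hK a t ∈ cU hq hK := by
  by_cases h : t ∈ dom hq hK a
  · rw [mem_cU, cR_val hq hK h, zst]
    refine mul_mem ((RS K).xe_mem_US ha t) ?_
    split_ifs
    · exact one_mem _
    · exact (RS K).xe_mem_US ((basicOK a a.2).2.2.2.2.2.1.2 ha : half chevE6 ≤ (barF a : ℕ)) _
  · rw [cR_out hq hK h]; exact one_mem _

theorem ng_pos (a : Rt) : half chevE6 ≤ (ng a : ℕ) ↔ ¬ half chevE6 ≤ (a : ℕ) := (chevRel certE6 ℚ).negF_pos_iff a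

theorem cR_not_mem {a : Rt} (ha : half chevE6 ≤ (a : ℕ)) {t : K} (ht : t ∈ dom hq hK a) (h0 : t ≠ 0) :
    cR hq hK (ng a) t ∉ cU hq hK := by
  intro h
  rw [mem_cU, cR_val hq hK (dom_ng hq hK a ▸ ht)] at h
  have h1 := θ_UP h
  rw [θ_zst] at h1
  have hn : ¬ half chevE6 ≤ (ng a : ℕ) := fun e => (ng_pos a).1 e ha
  have h2 : zval hq hK (ng a) t ∈ (chevRel certE6 K).UN := by
    refine (chevRel certE6 K).US_mono ?_ (zval_mem_US hq hK (ng a) t)
    rintro s (rfl | rfl)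
    · exact hn
    · exact fun e => hn ((basicOK _ (ng a).2).2.2.2.2.2.1.1 e)
  have h3 := (chevRel certE6 K).BS_inf_UN ((chevRel certE6 K).UP_le_BS h1) h2
  have h4 := Z_coord hq hK (r := ng a) (w := ⟨t, (mem_dom hq hK).1 (dom_ng hq hK a ▸ ht)⟩) (a := 0) (b := 0)
    (h3.trans (by rw [xG_zero, xG_zero, one_mul]))
  simp only [add_zero, ite_self] at h4
  exact h0 h4

/-- the Weyl element of the covering group -/
noncomputable def cn (k : Fin 4) (c : K) : ↥(cov hq hK) :=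
  cR hq hK (sim k) c * cR hq hK (ng (sim k)) (-c⁻¹) * cR hq hK (sim k) c

theorem cn_val {k : Fin 4} {c : K} (hd : c ∈ dom hq hK (sim k)) :
    ((cn hq hK k c : ↥(cov hq hK)) : chevE6.SteinbergGroup K) = nst hq hK k c := by
  rw [cn, Subgroup.coe_mul, Subgroup.coe_mul, cR_val hq hK hd,
    cR_val hq hK (dom_ng hq hK (sim k) ▸ neg_mem (inv_mem hd))]
  rfl

theorem cn_neg_one (k : Fin 4) :
    cR hq hK (sim k) (-1) * cR hq hK (ng (sim k)) 1 * cR hq hK (sim k) (-1) = cn hq hK k (-1) := by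
  rw [cn]; norm_num

theorem cn_conj (k : Fin 4) {c : K} (hc : c ≠ 0) (hd : c ∈ dom hq hK (sim k)) : ∃ μ : Rt → K,
    μ (sim k) = -(c ^ 2)⁻¹ ∧ (∀ a, μ (ng a) = (μ a)⁻¹) ∧ ∀ a, μ a ≠ 0 ∧ μ a ∈ dom hq hK a ∧
    ∀ t ∈ dom hq hK a, cn hq hK k c * cR hq hK a t * (cn hq hK k c)⁻¹ = cR hq hK (sW k a) (μ a * t) := by
  obtain ⟨μ, hμ, hμs⟩ := nst_isMon hq hK k hc
  refine ⟨μ, hμs, fun a => (hμ a).2.1, fun a => ?_⟩
  obtain ⟨h1, h2⟩ := conj_zst hq hK (nst_mem hq hK k ((mem_dom hq hK).1 hd)) hμ a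
  refine ⟨(hμ a).1, (mem_dom hq hK).2 h1, fun t ht => Subtype.ext ?_⟩
  rw [Subgroup.coe_mul, Subgroup.coe_mul, Subgroup.coe_inv, cn_val hq hK hd, cR_val hq hK ht,
    cR_val hq hK (dom_sW hq hK k a ▸ mul_mem ((mem_dom hq hK).2 h1) ht)]
  exact h2 t ((mem_dom hq hK).1 ht)

/-- the torus element of a relative simple root -/
theorem nst_he (k : Fin 4) (c : K) :
    nst hq hK k c * nst hq hK k (-1) = if bar (sim k) = sim k then (RS K).he (sim k : ℕ) c
      else (RS K).he (sim k : ℕ) c * (RS K).he (barF (sim k) : ℕ) (c ^ q) := by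
  split_ifs with h
  · rw [nst_fixed hq hK h, nst_fixed hq hK h]; rfl
  · obtain ⟨-, -, -, -, t1, t2, t3, t4⟩ := perm2_ok k h
    rw [nst_pair hq hK h, nst_pair hq hK h, neg_one_pow_q hq hK]
    exact Commute.mul_mul_mul_comm (ne_comm_ne _ t1 t2 t3 t4 _ _).symm _ _

theorem nst_hmul (k : Fin 4) {a b : K} (ha : a ≠ 0) (hb : b ≠ 0) :
    nst hq hK k a * nst hq hK k (-1) * (nst hq hK k b * nst hq hK k (-1)) =
      nst hq hK k (a * b) * nst hq hK k (-1) := by
  simp only [nst_he]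
  split_ifs with h
  · rw [← simple_id1]; exact (RS K).hmul' _ (id1 k).2 ha hb
  · obtain ⟨-, -, -, -, t1, t2, t3, t4⟩ := perm2_ok k h
    have hc : Commute ((RS K).he (barF (sim k) : ℕ) (a ^ q)) ((RS K).he (sim k : ℕ) b) :=
      ((ne_comm_ne _ t1 t2 t3 t4 _ _).symm.mul_right (ne_comm_ne _ t1 t2 t3 t4 _ _).symm).mul_left
        ((ne_comm_ne _ t1 t2 t3 t4 _ _).symm.mul_right (ne_comm_ne _ t1 t2 t3 t4 _ _).symm)
    rw [hc.mul_mul_mul_comm, ← simple_id1, ← simple_id2, (RS K).hmul' _ (id1 k).2 ha hb,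
      (RS K).hmul' _ (id2 k).2 (pow_ne_zero q ha) (pow_ne_zero q hb), mul_pow]

theorem cn_hmul (k : Fin 4) (a b : K) (ha : a ≠ 0) (hb : b ≠ 0) (had : a ∈ dom hq hK (sim k))
    (hbd : b ∈ dom hq hK (sim k)) :
    cn hq hK k a * cn hq hK k (-1) * (cn hq hK k b * cn hq hK k (-1)) = cn hq hK k (a * b) * cn hq hK k (-1) :=
  Subtype.ext (by
    simp only [Subgroup.coe_mul]
    rw [cn_val hq hK had, cn_val hq hK hbd, cn_val hq hK (neg_mem (one_mem _)), cn_val hq hK (mul_mem had hbd)]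
    exact nst_hmul hq hK k ha hb)

theorem cR_bar (a : Rt) (h : bar a ≠ a) (t : K) : cR hq hK (barF a) (fr hq hK a t) = cR hq hK a t := by
  have ht : t ∈ dom hq hK a := (mem_dom hq hK).2 fun e => absurd e h
  have ht' : fr hq hK a t ∈ dom hq hK (barF a) := (mem_dom hq hK).2 fun e => absurd (by
    rw [bar_eq_iff, barF_barF] at e; rw [bar_eq_iff]; exact e.symm) h
  exact Subtype.ext (by rw [cR_val hq hK ht, cR_val hq hK ht', zst_bar hq hK a h])

theorem cn_flip (k : Fin 4) (a : Rt) (ha : half chevE6 ≤ (a : ℕ)) (hs : ¬ half chevE6 ≤ (sW k a : ℕ)) (c : K)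
    (hd : c ∈ dom hq hK a) (hc : c ≠ 0) : ∃ c' ∈ dom hq hK (sim k), c' ≠ 0 ∧
      cR hq hK a c = cR hq hK (sim k) c' ∧ cR hq hK (ng a) (-c⁻¹) = cR hq hK (ng (sim k)) (-c'⁻¹) := by
  rcases flip_ok k a a.2 ha hs with h | h
  · obtain rfl : a = sim k := Fin.ext h
    exact ⟨c, hd, hc, rfl, rfl⟩
  · obtain rfl : a = barF (sim k) := Fin.ext h
    by_cases hb : bar (sim k) = sim k
    · rw [(bar_eq_iff _).1 hb] at hd ⊢
      exact ⟨c, hd, hc, rfl, rfl⟩
    · obtain ⟨c', rfl⟩ : ∃ c', fr hq hK (sim k : ℕ) c' = c :=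
        ⟨c ^ q, by rw [fr_sim, pow_qq hK]⟩
      refine ⟨c', (mem_dom hq hK).2 fun e => absurd e hb, fun e => hc (by rw [e, fr_sim, zero_pow hq.pos.ne']),
        cR_bar hq hK _ hb c', ?_⟩
      rw [← barF_ng, ← cR_bar hq hK (ng (sim k)) (fun e => hb ((bar_ng_eq _).1 e)) (-c'⁻¹), fr_ng_sim, fr_sim]

theorem cn_split (k : Fin 4) {u : ↥(cov hq hK)} (hu : u ∈ cU hq hK) :
    ∃ t ∈ dom hq hK (sim k), ∀ c, c ≠ 0 → c ∈ dom hq hK (sim k) →
      cn hq hK k c * (u * cR hq hK (sim k) t) * (cn hq hK k c)⁻¹ ∈ cU hq hK := by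
  obtain ⟨n, hn, hperm⟩ := exists_gen_lift hq hK (k : ℕ)
  have hperm' : (chevRel certE6 K).nsPerm n = sW k := Equiv.ext fun r => Fin.ext (hperm r)
  obtain ⟨v, hv⟩ : ∃ v, v = stTheta certE6 K u := ⟨_, rfl⟩
  have hvU : v ∈ (chevRel certE6 K).UP := hv ▸ θ_UP hu
  obtain ⟨p, hp, m, hm, e, hσp, hσm⟩ := (twE6 hq hK).fixed_factor ((twE6 hq hK).hfix _ hn) hvU
    ((twE6 hq hK).hfix _ (hv ▸ θ_mem hq hK u.2))
  rw [hperm'] at hp hm
  have hm' : m ∈ (chevRel certE6 K).US (orb (sim k)) := by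
    refine (chevRel certE6 K).US_mono (fun r hr => ?_) hm
    rcases flip_ok k r r.2 hr.1 hr.2 with h | h
    · exact Or.inl (Fin.ext h)
    · exact Or.inr (Fin.ext h)
  obtain ⟨s, hs⟩ := exists_Z hq hK (r := sim k) (g := ⟨m, mem_Tg_of_fixed hq hK hm' hσm⟩) hm'
  have hms : m = zval hq hK (sim k) s := congrArg Subtype.val hs
  refine ⟨-(s : K), (mem_dom hq hK).2 (neg_mem s.2), fun c hc hd => ?_⟩
  have hR : ((u * cR hq hK (sim k) (-(s : K)) : ↥(cov hq hK)) : chevE6.SteinbergGroup K) ∈ (RS K).UP :=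
    mul_mem hu (cR_mem hq hK (sim_ok k).2.1 _)
  obtain ⟨p', hp', ep⟩ : p ∈ ((RS K).US (keepSet (sW k))).map (stTheta certE6 K) := by rw [θ_US]; exact hp
  have hval : ((cR hq hK (sim k) (-(s : K)) : ↥(cov hq hK)) : chevE6.SteinbergGroup K) = zst hq hK (sim k) (-(s : K)) :=
    cR_val hq hK ((mem_dom hq hK).2 (neg_mem s.2))
  have e2 : ((u * cR hq hK (sim k) (-(s : K)) : ↥(cov hq hK)) : chevE6.SteinbergGroup K) = p' := by
    refine θ_injOn hR ((RS K).US_mono (Rel.keepSet_subset _) hp') ?_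
    rw [ep, Subgroup.coe_mul, hval, map_mul, θ_zst, ← hv, e, hms, mul_assoc]
    have := congrArg Subtype.val (AddChar.map_add_eq_mul (Z hq hK (sim k)) s (-s))
    rw [add_neg_cancel, AddChar.map_zero_eq_one] at this
    rw [show zval hq hK (sim k) (s : K) * zval hq hK (sim k) (-(s : K)) = 1 from this.symm, mul_one]
  obtain ⟨μ, hμ, -⟩ := nst_isMon hq hK k hc
  rw [mem_cU, Subgroup.coe_mul, Subgroup.coe_mul, Subgroup.coe_inv, e2, cn_val hq hK hd]
  exact Rel.IsMon.conj_mem_US (RS K) hμ (T := posSet chevE6) (fun r hr => hr.2) hp'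

/-- the system of the covering group -/
noncomputable def covSys (p : ℕ) : Sys ↥(cov hq hK) K p Rt (Fin 4) where
  U := cU hq hK
  s := sW
  s_sq := sW_sW
  pos a := half chevE6 ≤ (a : ℕ)
  sim := sim
  pos_sim k := (sim_ok k).2.1
  dom := dom hq hK
  dom_s := dom_sW hq hK
  R := cR hq hK
  N a := cR hq hK (ng a)
  R_out a t h := cR_out hq hK h
  N_out a t h := cR_out hq hK (dom_ng hq hK a ▸ h)
  R_add := cR_add hq hK
  N_add a t u ht hu := cR_add hq hK _ t u (dom_ng hq hK a ▸ ht) (dom_ng hq hK a ▸ hu)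
  R_mem a t h := cR_mem hq hK h t
  N_mem a t h := cR_mem hq hK ((ng_pos a).2 h) t
  N_not a t h ht h0 := cR_not_mem hq hK h ht h0
  conj_n k c hc hd a := by
    obtain ⟨μ, -, hn, hμ⟩ := cn_conj hq hK k hc hd
    obtain ⟨h0, h1, h2⟩ := hμ a
    refine ⟨μ a, h0, h1, h2, fun t ht => ?_⟩
    have h3 := (hμ (ng a)).2.2 t (dom_ng hq hK a ▸ ht)
    have hs : sW k (ng a) = ng (sW k a) := by
      obtain ⟨ν, hν, -⟩ := nst_isMon hq hK k hc
      exact (hν a).2.2.1
    rw [hn, hs, show (μ a)⁻¹ * t = t / μ a by ring] at h3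
    exact h3
  n_R k c hc hd t ht := by
    obtain ⟨μ, hs, -, hμ⟩ := cn_conj hq hK k hc hd
    have h := (hμ (sim k)).2.2 t ht
    rw [sW_sim, hs, show -(c ^ 2)⁻¹ * t = -t / c ^ 2 by ring] at h
    exact h
  flip k a ha hs c hd hc := cn_flip hq hK k a ha hs c hd hc
  h_mul k a b ha hb had hbd := by
    rw [cn_neg_one]
    exact cn_hmul hq hK k a b ha hb had hbd
  split k u hu := cn_split hq hK k hu

theorem covSys_gen (p : ℕ) : (covSys hq hK p).U ⊔ (covSys hq hK p).WeylGp = ⊤ := by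
  obtain ⟨H, hH⟩ : ∃ H, H = (covSys hq hK p).U ⊔ (covSys hq hK p).WeylGp := ⟨_, rfl⟩
  have key : ∀ n, ∀ r : Rt, chevE6.nroots - (r : ℕ) = n → ∀ t ∈ dom hq hK r, cR hq hK r t ∈ H := by
    intro n
    induction n using Nat.strong_induction_on with
    | _ n ih =>
      intro r hr t ht
      by_cases hp : half chevE6 ≤ (r : ℕ)
      · exact hH ▸ Subgroup.mem_sup_left (cR_mem hq hK hp t)
      · obtain ⟨k, hk⟩ := down_ok r (not_le.1 hp)
        have h1 : (1 : K) ∈ dom hq hK (sim k) := one_mem _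
        obtain ⟨μ, -, -, hμ⟩ := cn_conj hq hK k one_ne_zero h1
        obtain ⟨h0, hd, h2⟩ := hμ (sW k r)
        have hn : cn hq hK k 1 ∈ H := hH ▸ Subgroup.mem_sup_right (Subgroup.subset_closure ⟨k, 1, one_ne_zero, h1, rfl⟩)
        have hu : t / μ (sW k r) ∈ dom hq hK (sW k r) := div_mem (dom_sW hq hK k r ▸ ht) hd
        have h3 := h2 _ hu
        rw [sW_sW, mul_div_cancel₀ t h0] at h3
        rw [← h3]
        refine mul_mem (mul_mem hn (ih _ ?_ (sW k r) rfl _ hu)) (inv_mem hn)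
        have := (sW k r).2
        rw [sW_val] at this ⊢
        omega
  rw [← hH, ← top_le_iff]
  refine le_of_eq_of_le Subgroup.closure_closure_coe_preimage.symm ((Subgroup.closure_le _).2 ?_)
  intro x hx
  obtain ⟨r, t, ht, e⟩ := hx
  have ht' := (mem_dom hq hK).2 ht
  have e' : x = cR hq hK r t := Subtype.ext (e.trans (cR_val hq hK ht').symm)
  exact e' ▸ key _ r rfl t ht'

/-! ### the torus -/

/-- the value of a torus parameter -/
noncomputable def cu (p : ℕ) (k : Fin 4) : (covSys hq hK p).TU k →* Kˣ :=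
  Units.map (Subfield.subtype ((covSys hq hK p).dom ((covSys hq hK p).sim k))).toMonoidHom

theorem cu_injective (p : ℕ) (k : Fin 4) : Function.Injective (cu hq hK p k) :=
  Units.map_injective Subtype.val_injective

theorem cu_mem (p : ℕ) (k : Fin 4) (c : (covSys hq hK p).TU k) : ((cu hq hK p k c : Kˣ) : K) ∈ dom hq hK (sim k) :=
  (Units.val c).2

/-- a torus tuple as parameters of the Chevalley torus -/
noncomputable def tt (p : ℕ) : ((k : Fin 4) → (covSys hq hK p).TU k) →* (Fin chevE6.rank → Kˣ) where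
  toFun x := tupE6 q (cu hq hK p 0 (x 0)) (cu hq hK p 1 (x 1)) (cu hq hK p 2 (x 2)) (cu hq hK p 3 (x 3))
  map_one' := by
    funext i
    obtain ⟨i, hi⟩ := i
    have hi6 : i < 6 := hi
    interval_cases i <;> simp [tupE6]
  map_mul' x y := by
    funext i
    obtain ⟨i, hi⟩ := i
    have hi6 : i < 6 := hi
    interval_cases i <;> simp [tupE6, mul_pow]

theorem stRel_inj : Function.Injective (RS K).torusHom :=
  stRel_torusHom_injective (chevRel certE8 K) certE6 embE6E8 witE6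
    (chevRel_torusHom_injective certE8 K cmat_E8 smithE8 (by decide +kernel))

theorem tt_injective (p : ℕ) : Function.Injective (tt hq hK p) := by
  refine (injective_iff_map_eq_one _).2 fun x hx => funext fun k => ?_
  have l : ∀ n, n < 6 → n < chevE6.rank := fun n hn => lt_of_lt_of_eq hn (by decide +kernel)
  have e0 := congrFun hx ⟨0, l 0 (by norm_num)⟩
  have e1 := congrFun hx ⟨1, l 1 (by norm_num)⟩
  have e2 := congrFun hx ⟨2, l 2 (by norm_num)⟩
  have e3 := congrFun hx ⟨3, l 3 (by norm_num)⟩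
  fin_cases k
  · exact cu_injective hq hK p 0 (e1.trans (map_one (cu hq hK p 0)).symm)
  · exact cu_injective hq hK p 1 (e3.trans (map_one (cu hq hK p 1)).symm)
  · exact cu_injective hq hK p 2 (e2.trans (map_one (cu hq hK p 2)).symm)
  · exact cu_injective hq hK p 3 (e0.trans (map_one (cu hq hK p 3)).symm)

theorem tor_eq (p : ℕ) {θ : ((k : Fin 4) → (covSys hq hK p).TU k) →* ↥(cov hq hK)}
    (hθ : ∀ [DecidableEq (Fin 4)], ∀ k (c : (covSys hq hK p).TU k), θ (Pi.mulSingle k c) =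
      cn hq hK k ((cu hq hK p k c : Kˣ) : K) * cn hq hK k (-1))
    (x : (k : Fin 4) → (covSys hq hK p).TU k) :
    ((θ x : ↥(cov hq hK)) : chevE6.SteinbergGroup K) = ((RS K).torusHom (tt hq hK p x) : chevE6.SteinbergGroup K) := by
  classical
  suffices h : (cov hq hK).subtype.comp θ = (RS K).HS.subtype.comp ((RS K).torusHom.comp (tt hq hK p)) from
    DFunLike.congr_fun h x
  refine MonoidHom.pi_ext fun k c => ?_
  obtain ⟨⟨v1, v3⟩, ⟨v2, v4⟩, v0, v5⟩ := id_vals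
  obtain ⟨⟨b0, b1⟩, b2, b3⟩ := bar_sim_ok
  obtain ⟨u, hu⟩ : ∃ u : Kˣ, u = cu hq hK p k c := ⟨_, rfl⟩
  simp only [MonoidHom.comp_apply, Subgroup.coe_subtype]
  rw [hθ, Subgroup.coe_mul, cn_val hq hK (cu_mem hq hK p k c), cn_val hq hK (neg_mem (one_mem _)), ← hu, nst_he]
  have hsingle : tt hq hK p (Pi.mulSingle k c) = if bar (sim k) = sim k then Pi.mulSingle (id1 k) u
      else Pi.mulSingle (id1 k) u * Pi.mulSingle (id2 k) (u ^ q) := by
    subst hu
    rcases (show k = 0 ∨ k = 1 ∨ k = 2 ∨ k = 3 by omega) with rfl | rfl | rfl | rfl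
    · rw [if_pos b0]
      funext i
      obtain ⟨i, hi⟩ := i
      have hi6 : i < 6 := hi
      interval_cases i <;> simp [tt, tupE6, Fin.ext_iff, v1, Pi.mul_apply, Pi.mulSingle_apply]
    · rw [if_pos b1]
      funext i
      obtain ⟨i, hi⟩ := i
      have hi6 : i < 6 := hi
      interval_cases i <;> simp [tt, tupE6, Fin.ext_iff, v3, Pi.mul_apply, Pi.mulSingle_apply]
    · rw [if_neg b2]
      funext i
      obtain ⟨i, hi⟩ := i
      have hi6 : i < 6 := hi
      interval_cases i <;> simp [tt, tupE6, Fin.ext_iff, v2, v4, Pi.mul_apply, Pi.mulSingle_apply]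
    · rw [if_neg b3]
      funext i
      obtain ⟨i, hi⟩ := i
      have hi6 : i < 6 := hi
      interval_cases i <;> simp [tt, tupE6, Fin.ext_iff, v0, v5, Pi.mul_apply, Pi.mulSingle_apply]
  rw [hsingle]
  split_ifs
  · rw [(RS K).torusHom_single, ← simple_id1]; rfl
  · rw [map_mul, Subgroup.coe_mul, (RS K).torusHom_single, (RS K).torusHom_single, ← simple_id1, ← simple_id2,
      ← Units.val_pow_eq_pow_val]
    rfl

theorem covSys_torusFree (p : ℕ) : (covSys hq hK p).TorusFree := by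
  intro θ hθ x hx
  refine tt_injective hq hK p (stRel_inj (Subtype.ext ?_))
  have he := tor_eq hq hK p (θ := θ) (fun k c => by rw [hθ k c, ← cn_neg_one]; rfl) x
  have h1 : ((RS K).torusHom (tt hq hK p x) : chevE6.SteinbergGroup K) ∈ (RS K).UP ⊓ (RS K).HS :=
    Subgroup.mem_inf.2 ⟨he ▸ hx, SetLike.coe_mem _⟩
  rw [(RS K).UP_inf_HS, Subgroup.mem_bot] at h1
  rw [h1, map_one, map_one]
  rfl

end CfsgLib.Lie.Chev.TwGroups.E6Mult
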