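import Cfsg.Agent.Lib.Lie.Twisted.E6Mult.Cert
import Cfsg.Agent.Lib.Known.SympMult.Tools

/-!
# Lifts of the root families along a central extension
-/

set_option autoImplicit false
set_option linter.unusedSectionVars false

namespace CfsgLib.Lie.Chev.TwGroups.E6Mult

open Cfsg.Lie (chevE6)
open CfsgLib.PLocal CfsgLib.PLocal.RadTw
open CfsgLib.Known.SympMult
open scoped commutatorElement

variable {K : Type*} [Field K] [Fintype K] {q : ℕ} (hq : IsPrimePow q) (hK : Fintype.card K = q ^ 2) (h3 : 3 ≤ q)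
variable {Γ : Type*} [Group Γ] {π : Γ →* ↥(Tg hq hK)} (C : CExt π)

/-- lifts of two families commute -/
def LC (π : Γ →* ↥(Tg hq hK)) (a b : Rt) : Prop :=
  ∀ t u (x y : Γ), π x = Z hq hK a t → π y = Z hq hK b u → Commute x y

theorem LC.symm {a b : Rt} (h : LC hq hK π a b) : LC hq hK π b a :=
  fun t u x y hx hy => (h u t y x hy hx).symm

include h3 C in
theorem lc_sep {m f : Rt} (hc : CT m f []) {n : ℕ} (hs : Sep n m f) : LC hq hK π m f := by
  obtain ⟨hsm, hf1, hf2⟩ := hs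
  obtain ⟨t0, ht0⟩ := exists_mv_sub hq hK h3 hsm
  obtain ⟨h, hh⟩ := C.surj (hE hq hK n t0)
  intro s u x y hx hy
  obtain ⟨w, hw⟩ := ht0 s
  obtain ⟨xw, hxw⟩ := C.surj (Z hq hK m w)
  have e1 : π (h * xw * h⁻¹) = π (xw * x) := by
    rw [map_mul, map_mul, map_inv, map_mul, hh, hxw, hx, hE_Z, hw, AddChar.map_add_eq_mul]
  obtain ⟨z, hz, e⟩ := C.diff e1
  have hcz : ⁅xw, y⁆ ∈ π.ker := by
    rw [MonoidHom.mem_ker, map_commutatorElement, hxw, hy, commutatorElement_eq_one_iff_commute]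
    exact commute_of_CT hq hK hc w u
  have e2 : ⁅h * xw * h⁻¹, h * y * h⁻¹⁆ = ⁅xw, y⁆ := by
    rw [show ⁅h * xw * h⁻¹, h * y * h⁻¹⁆ = h * ⁅xw, y⁆ * h⁻¹ by simp only [commutatorElement_def]; group,
      (C.ker_comm hcz h).eq, mul_inv_cancel_right]
  have hyl : π (h * y * h⁻¹) = π y := by
    rw [map_mul, map_mul, map_inv, hh, hy, hE_Z, mv_of_triv hq hK hf1 hf2]
  obtain ⟨z', hz', e'⟩ := C.diff hyl
  rw [e, e', show ⁅xw * x * z, y * z'⁆ = ⁅xw * x, y⁆ by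
      rw [C.comm_eq (g := π (xw * x)) (h := π y) (by rw [map_mul _ (xw * x), hz, mul_one])
        (by rw [map_mul, hz', mul_one]), ← C.comm_eq rfl rfl],
    show ⁅xw * x, y⁆ = xw * ⁅x, y⁆ * xw⁻¹ * ⁅xw, y⁆ by simp only [commutatorElement_def]; group,
    mul_eq_right] at e2
  rw [← commutatorElement_eq_one_iff_commute]
  exact conj_eq_one_iff.1 e2

include h3 C in
theorem lc_of_ok {a b : Rt} (h : LCOK a b) : LC hq hK π a b := by
  obtain ⟨hc, n, -, hs | hs⟩ := h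
  · exact lc_sep hq hK h3 C hc hs
  · refine (lc_sep hq hK h3 C ?_ hs).symm
    obtain ⟨h1, h2, h3, h4⟩ := hc
    have sw : ∀ {x y : ℕ}, Rad.Terms chevE6 x y [] → Rad.Terms chevE6 y x [] := fun {x y} hT => by
      have key : ∀ x < 72, ∀ y < 72, Rad.Terms chevE6 x y [] → Rad.Terms chevE6 y x [] := by decide +kernel
      exact key x (lt_of_lt_of_eq hT.1 (by decide +kernel)) y (lt_of_lt_of_eq hT.2.1 (by decide +kernel)) hT
    exact ⟨sw h1, sw h3, sw h2, sw h4⟩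

include C in
/-- an orbit produced by two orbits whose lifts commute with those of `a` -/
theorem lc_of_pair {c d k a : Rt} (hp : Pair c d k) (hca : LC hq hK π c a) (hda : LC hq hK π d a)
    (hk : orb k = orb a) : LC hq hK π a a := by
  obtain ⟨β, he, -, -, -, hs⟩ := hp.spec hq hK
  intro s u x y hx hy
  obtain ⟨w, hw⟩ := exists_Z hq hK (r := k) (g := Z hq hK a s) (Z_mem_SG hq hK hk.ge s)
  obtain ⟨t, ht⟩ := hs ⟨1, P_one hq hK⟩ (fun e => one_ne_zero (α := K) (congrArg Subtype.val e)) w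
  obtain ⟨xc, hxc⟩ := C.surj (Z hq hK c t)
  obtain ⟨xd, hxd⟩ := C.surj (Z hq hK d ⟨1, P_one hq hK⟩)
  have hcy := hca _ _ xc y hxc hy
  have hdy := hda _ _ xd y hxd hy
  obtain ⟨z, hz, rfl⟩ := C.diff (x := x) (y := (xc * xd)⁻¹ * (xd * xc)) (by
    rw [hx, map_mul, map_inv, map_mul, map_mul, hxc, hxd, hw, he, ht, inv_mul_cancel_left])
  exact (((hcy.mul_left hdy).inv_left).mul_left (hdy.mul_left hcy)).mul_left (C.ker_comm hz y).symm

theorem lt72 : chevE6.nroots = 72 := by decide +kernel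

include h3 C in
theorem lc_self {a : Rt} (ha : (a : ℕ) ∈ posR) : LC hq hK π a a := by
  obtain ⟨⟨a', c, d⟩, hmem, e⟩ := List.mem_map.1 (self_all _ ha)
  obtain ⟨⟨hc, hd⟩, hp, hca, hda⟩ := self_ok _ hmem
  obtain rfl : a' = (a : ℕ) := e
  have hca' := lc_of_ok hq hK h3 C (a := ⟨c, hc⟩) (b := a) hca
  have hda' := lc_of_ok hq hK h3 C (a := ⟨d, hd⟩) (b := a) hda
  have hda'' : LC hq hK π (barF ⟨d, hd⟩) a := fun t u x y hx hy => by
    obtain ⟨t', ht'⟩ := exists_Z hq hK (r := ⟨d, hd⟩) (g := Z hq hK (barF ⟨d, hd⟩) t)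
      (Z_mem_SG hq hK (orb_barF ⟨d, hd⟩).le t)
    exact hda' t' u x y (hx.trans ht') hy
  rcases hp with h | h | h | h | h | h | h | h
  · exact lc_of_pair hq hK C (c := ⟨c, hc⟩) (d := ⟨d, hd⟩) (k := a) h hca' hda' rfl
  · exact lc_of_pair hq hK C (c := ⟨d, hd⟩) (d := ⟨c, hc⟩) (k := a) h hda' hca' rfl
  · exact lc_of_pair hq hK C (c := ⟨c, hc⟩) (d := ⟨d, hd⟩) (k := barF a) h hca' hda' (orb_barF a)
  · exact lc_of_pair hq hK C (c := ⟨d, hd⟩) (d := ⟨c, hc⟩) (k := barF a) h hda' hca' (orb_barF a)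
  · exact lc_of_pair hq hK C (c := ⟨c, hc⟩) (d := barF ⟨d, hd⟩) (k := a) h hca' hda'' rfl
  · exact lc_of_pair hq hK C (c := barF ⟨d, hd⟩) (d := ⟨c, hc⟩) (k := a) h hda'' hca' rfl
  · exact lc_of_pair hq hK C (c := ⟨c, hc⟩) (d := barF ⟨d, hd⟩) (k := barF a) h hca' hda'' (orb_barF a)
  · exact lc_of_pair hq hK C (c := barF ⟨d, hd⟩) (d := ⟨c, hc⟩) (k := barF a) h hda'' hca' (orb_barF a)

/-- the root of a positive representative -/
def rtP (a : {r : ℕ // r ∈ posR}) : Rt := ⟨a.1, by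
  have key : ∀ r ∈ posR, r < chevE6.nroots := by decide +kernel
  exact key _ a.2⟩

/-- the cocharacter moving a family -/
noncomputable def nF (a : {r : ℕ // r ∈ posR}) : ℕ := (fpf_ok _ a.2).choose

theorem nF_small (a : {r : ℕ // r ∈ posR}) : Small (nF a) (rtP a : ℕ) := (fpf_ok _ a.2).choose_spec.2

/-- the unit moving a family -/
noncomputable def tF (a : {r : ℕ // r ∈ posR}) : Kˣ :=
  (exists_mv_sub hq hK h3 (nF_small a)).choose

theorem exists_pre (a : {r : ℕ // r ∈ posR}) (v : ↥(P hq hK (rtP a))) :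
    ∃ w, mv hq hK (nF a) (tF hq hK h3 a) (rtP a) w = w + v :=
  (exists_mv_sub hq hK h3 (nF_small a)).choose_spec v

/-- the preimage of a parameter -/
noncomputable def pre (a : {r : ℕ // r ∈ posR}) (v : ↥(P hq hK (rtP a))) : ↥(P hq hK (rtP a)) :=
  (exists_pre hq hK h3 a v).choose

theorem pre_spec (a : {r : ℕ // r ∈ posR}) (v : ↥(P hq hK (rtP a))) :
    mv hq hK (nF a) (tF hq hK h3 a) (rtP a) (pre hq hK h3 a v) = pre hq hK h3 a v + v :=
  (exists_pre hq hK h3 a v).choose_spec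

/-- the torus element moving a family -/
noncomputable def hF (a : {r : ℕ // r ∈ posR}) : ↥(Tg hq hK) := hE hq hK (nF a) (tF hq hK h3 a)

theorem comm_hF (a : {r : ℕ // r ∈ posR}) (w : ↥(P hq hK (rtP a))) :
    ⁅hF hq hK h3 a, Z hq hK (rtP a) w⁆ =
      Z hq hK (rtP a) (mv hq hK (nF a) (tF hq hK h3 a) (rtP a) w - w) := by
  rw [commutatorElement_def, hF, hE_Z, mul_inv_eq_iff_eq_mul, ← AddChar.map_add_eq_mul, sub_add_cancel]

theorem pre_unique (a : {r : ℕ // r ∈ posR}) {v w : ↥(P hq hK (rtP a))}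
    (h : mv hq hK (nF a) (tF hq hK h3 a) (rtP a) w = w + v) : pre hq hK h3 a v = w := by
  have h2 := congrArg Subtype.val (pre_spec hq hK h3 a v)
  have h1 := congrArg Subtype.val h
  simp only [mv_val, AddSubgroup.coe_add] at h1 h2
  obtain ⟨c, hc⟩ : ∃ c : K, c = ((chU q (nF a) (rtP a : ℕ) (tF hq hK h3 a) : Kˣ) : K) := ⟨_, rfl⟩
  rw [← hc] at h1 h2
  have hne : c - 1 ≠ 0 := by
    intro e
    obtain ⟨w', hw'⟩ := exists_pre hq hK h3 a ⟨1, P_one hq hK⟩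
    have := congrArg Subtype.val hw'
    rw [mv_val, AddSubgroup.coe_add, ← hc, sub_eq_zero.1 e, one_mul] at this
    exact one_ne_zero (α := K) (left_eq_add.1 this)
  have h0 : (c - 1) * (((pre hq hK h3 a v : ↥(P hq hK (rtP a))) : K) - w) = 0 := by linear_combination h2 - h1
  exact Subtype.ext (sub_eq_zero.1 ((mul_eq_zero.1 h0).resolve_left hne))

/-- the canonical lifts of a family -/
noncomputable def Lr (C : CExt π) (a : {r : ℕ // r ∈ posR}) (v : ↥(P hq hK (rtP a))) : Γ :=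
  C.cm (hF hq hK h3 a) (Z hq hK (rtP a) (pre hq hK h3 a v))

theorem π_Lr (a : {r : ℕ // r ∈ posR}) (v : ↥(P hq hK (rtP a))) :
    π (Lr hq hK h3 C a v) = Z hq hK (rtP a) v := by
  rw [Lr, C.σ_cm, comm_hF, pre_spec, add_sub_cancel_left]

theorem Lr_add (a : {r : ℕ // r ∈ posR}) (v v' : ↥(P hq hK (rtP a))) :
    Lr hq hK h3 C a (v + v') = Lr hq hK h3 C a v * Lr hq hK h3 C a v' := by
  obtain ⟨w, hw⟩ : ∃ w, w = pre hq hK h3 a v := ⟨_, rfl⟩
  obtain ⟨w', hw'⟩ : ∃ w', w' = pre hq hK h3 a v' := ⟨_, rfl⟩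
  have e : pre hq hK h3 a (v + v') = w + w' := by
    refine pre_unique hq hK h3 a (Subtype.ext ?_)
    have h1 := congrArg Subtype.val (pre_spec hq hK h3 a v)
    have h2 := congrArg Subtype.val (pre_spec hq hK h3 a v')
    simp only [mv_val, AddSubgroup.coe_add, ← hw, ← hw'] at h1 h2 ⊢
    linear_combination h1 + h2
  obtain ⟨h, hh⟩ := C.surj (hF hq hK h3 a)
  obtain ⟨x, hx⟩ := C.surj (Z hq hK (rtP a) w)
  obtain ⟨x', hx'⟩ := C.surj (Z hq hK (rtP a) w')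
  have e1 : Lr hq hK h3 C a (v + v') = ⁅h, x * x'⁆ := by
    rw [Lr, e]
    exact (C.comm_eq hh (by rw [map_mul, hx, hx', AddChar.map_add_eq_mul])).symm
  have e2 : Lr hq hK h3 C a v = ⁅h, x⁆ := by rw [Lr, ← hw]; exact (C.comm_eq hh hx).symm
  have e3 : Lr hq hK h3 C a v' = ⁅h, x'⁆ := by rw [Lr, ← hw']; exact (C.comm_eq hh hx').symm
  have hcx : Commute x ⁅h, x'⁆ := by
    refine lc_self hq hK h3 C (a := rtP a) a.2 w v' x _ hx ?_
    rw [← e3]
    exact π_Lr hq hK h3 C a v'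
  rw [e1, e2, e3, show ⁅h, x * x'⁆ = ⁅h, x⁆ * (x * ⁅h, x'⁆ * x⁻¹) by simp only [commutatorElement_def]; group,
    hcx.eq, mul_inv_cancel_right]

theorem Lr_zero (a : {r : ℕ // r ∈ posR}) : Lr hq hK h3 C a 0 = 1 := by
  have := Lr_add hq hK h3 C a 0 0
  rw [add_zero] at this
  exact mul_eq_left.1 this.symm

theorem Lr_conj (a : {r : ℕ // r ∈ posR}) (n : ℕ) (t : Kˣ) {k : Γ} (hk : π k = hE hq hK n t)
    (v : ↥(P hq hK (rtP a))) :
    k * Lr hq hK h3 C a v * k⁻¹ = Lr hq hK h3 C a (mv hq hK n t (rtP a) v) := by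
  have e : pre hq hK h3 a (mv hq hK n t (rtP a) v) = mv hq hK n t (rtP a) (pre hq hK h3 a v) := by
    refine pre_unique hq hK h3 a (Subtype.ext ?_)
    have h1 := congrArg Subtype.val (pre_spec hq hK h3 a v)
    simp only [mv_val, AddSubgroup.coe_add] at h1 ⊢
    linear_combination ((chU q n (rtP a : ℕ) t : Kˣ) : K) * h1
  obtain ⟨h, hh⟩ := C.surj (hF hq hK h3 a)
  obtain ⟨x, hx⟩ := C.surj (Z hq hK (rtP a) (pre hq hK h3 a v))
  rw [Lr, Lr, e, ← C.comm_eq hh hx,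
    show k * ⁅h, x⁆ * k⁻¹ = ⁅k * h * k⁻¹, k * x * k⁻¹⁆ by simp only [commutatorElement_def]; group]
  refine C.comm_eq ?_ (by rw [map_mul, map_mul, map_inv, hk, hx, hE_Z])
  rw [map_mul, map_mul, map_inv, hk, hh, hF, (hE_comm hq hK n _ t _).eq, mul_inv_cancel_right]

end CfsgLib.Lie.Chev.TwGroups.E6Mult
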