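import Cfsg.Agent.Lib.PLocal.RadTw.Run
import Cfsg.Agent.Lib.Lie.Twisted.E6Torus
import Cfsg.Agent.Lib.Known.TrialityTorus.Tools

/-!
# Torus elements of the twisted groups of type E6 given by cocharacters
-/

set_option autoImplicit false
set_option linter.unusedSectionVars false

namespace CfsgLib.Lie.Chev.TwGroups.E6Mult

open Cfsg.Lie (chevE6)
open CfsgLib.PLocal.RadTw

/-- the twist on the simple roots -/
def pi6 (i : ℕ) : ℕ := piE6.getD i 0

/-- the coefficients of a root, read as a cocharacter -/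
def cf (n i : ℕ) : ℤ := auxE6.coef i n

/-- the exponent of `t` in the character of `r` -/
def ex1 (n r : ℕ) : ℤ := ((List.range 6).map fun i => chevE6.cartan i r * cf n i).sum

/-- the exponent of `t ^ q` in the character of `r` -/
def ex2 (n r : ℕ) : ℤ := ((List.range 6).map fun i => chevE6.cartan i r * cf n (pi6 i)).sum

/-- the character of `r` is not trivial -/
def Small (n r : ℕ) : Prop :=
  (ex1 n r).natAbs ≤ 1 ∧ (ex2 n r).natAbs ≤ 1 ∧ (ex1 n r ≠ 0 ∨ ex2 n r ≠ 0)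

instance (n r : ℕ) : Decidable (Small n r) := by unfold Small; infer_instance

/-- the character of `m` is not trivial and that of `f` is trivial -/
def Sep (n m f : ℕ) : Prop := Small n m ∧ ex1 n f = 0 ∧ ex2 n f = 0

instance (n m f : ℕ) : Decidable (Sep n m f) := by unfold Sep; infer_instance

variable {K : Type*} [Field K] [Fintype K] {q : ℕ} (hq : IsPrimePow q) (hK : Fintype.card K = q ^ 2)

/-- the value of the character -/
noncomputable def chU (q : ℕ) (n r : ℕ) (t : Kˣ) : Kˣ := t ^ ex1 n r * (t ^ q) ^ ex2 n r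

include hK in
theorem units_qq (t : Kˣ) : (t ^ q) ^ q = t :=
  Units.ext (by push_cast; exact pow_qq hK _)

include hq hK in
/-- the norm of a unit is fixed -/
theorem norm_fix (t : Kˣ) (z : ℤ) : (t * t ^ q) ^ z ∈ fixUnits K q := by
  refine Subgroup.zpow_mem _ ?_ z
  rw [fixUnits_iff hq.pos, mul_pow, units_qq hK, mul_comm]

include hq hK in
theorem exists_chU_ne_one (h3 : 3 ≤ q) {n r : ℕ} (h : Small n r) : ∃ t : Kˣ, chU q n r t ≠ 1 := by
  obtain ⟨g, hg⟩ := IsCyclic.exists_ofOrder_eq_natCard (α := Kˣ)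
  refine ⟨g, fun e => ?_⟩
  have hn : Nat.card Kˣ = q ^ 2 - 1 := by rw [Nat.card_units, Nat.card_eq_fintype_card, hK]
  have e1 : g ^ (ex1 n r + q * ex2 n r) = 1 := by
    rw [zpow_add, zpow_mul, zpow_natCast]
    exact e
  rw [← orderOf_dvd_iff_zpow_eq_one, hg, hn] at e1
  obtain ⟨h1, h2, h0⟩ := h
  obtain ⟨x, hx⟩ : ∃ x, x = ex1 n r := ⟨_, rfl⟩
  obtain ⟨y, hy⟩ : ∃ y, y = ex2 n r := ⟨_, rfl⟩
  rw [← hx, ← hy] at e1 h0
  rw [← hx] at h1
  rw [← hy] at h2
  have hx' : x = -1 ∨ x = 0 ∨ x = 1 := by omega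
  have hy' : y = -1 ∨ y = 0 ∨ y = 1 := by omega
  have hbig : (q : ℤ) + 1 < ((q ^ 2 - 1 : ℕ) : ℤ) := by
    rw [Nat.cast_sub (Nat.one_le_pow _ _ hq.pos)]
    push_cast
    nlinarith
  have hz : x + q * y = 0 := by
    by_contra hne
    have h4 := Int.natAbs_le_of_dvd_ne_zero e1 hne
    simp only [Int.natAbs_natCast] at h4
    rcases hx' with rfl | rfl | rfl <;> rcases hy' with rfl | rfl | rfl <;> omega
  rcases hx' with rfl | rfl | rfl <;> rcases hy' with rfl | rfl | rfl <;> omega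

/-- the torus element of a cocharacter -/
noncomputable def hE (n : ℕ) (t : Kˣ) : ↥(Tg hq hK) :=
  ⟨psiE6 K q ((⟨_, norm_fix hq hK t (cf n 1)⟩, ⟨_, norm_fix hq hK t (cf n 3)⟩),
    (t ^ cf n 2 * (t ^ q) ^ cf n 4, t ^ cf n 0 * (t ^ q) ^ cf n 5)), (Subgroup.mem_inf.1 (psiE6_mem hq hK _)).1⟩

theorem hE_HS (n : ℕ) (t : Kˣ) : ((hE hq hK n t : ↥(Tg hq hK)) : ↥(chevE6.group K)) ∈ (chevRel certE6 K).HS :=
  (Subgroup.mem_inf.1 (psiE6_mem hq hK _)).2

theorem hE_comm (n n' : ℕ) (t t' : Kˣ) : Commute (hE hq hK n t) (hE hq hK n' t') :=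
  Subtype.ext ((chevRel certE6 K).HS_isMulCommutative (hE_HS hq hK n t) (hE_HS hq hK n' t'))

/-- the conjugation on root elements -/
theorem hE_xG (n : ℕ) (t : Kˣ) (r : Rt) (u : K) :
    ((hE hq hK n t : ↥(Tg hq hK)) : ↥(chevE6.group K)) * xG certE6 K r u *
      ((hE hq hK n t : ↥(Tg hq hK)) : ↥(chevE6.group K))⁻¹ = xG certE6 K r ((chU q n r t : Kˣ) * u) := by
  have h := (Known.TrialityTorus.isMon_torusHom (chevRel certE6 K) (tupE6 q ((t * t ^ q) ^ cf n 1)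
    ((t * t ^ q) ^ cf n 3) (t ^ cf n 2 * (t ^ q) ^ cf n 4) (t ^ cf n 0 * (t ^ q) ^ cf n 5)) r).2.2.2 u
  rw [Equiv.Perm.one_apply] at h
  refine h.trans (congrArg (fun z => xG certE6 K (r : ℕ) ((z : Kˣ) * u)) ?_)
  show ∏ i : Fin 6, (tupE6 (K := K) q ((t * t ^ q) ^ cf n 1) ((t * t ^ q) ^ cf n 3)
    (t ^ cf n 2 * (t ^ q) ^ cf n 4) (t ^ cf n 0 * (t ^ q) ^ cf n 5) i) ^ chevE6.cartan i r = chU q n r t
  have hs : ∀ (a b : ℤ) (x y : Kˣ), (x ^ a * y ^ b) ^ q = (x ^ q) ^ a * (y ^ q) ^ b := fun a b x y => by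
    rw [mul_pow]
    congr 1 <;> rw [← zpow_natCast, ← zpow_natCast, ← zpow_mul, ← zpow_mul, mul_comm]
  simp only [Fin.prod_univ_succ, Fin.prod_univ_zero, tupE6, chU, ex1, ex2, List.range_succ, List.range_zero,
    List.nil_append, List.cons_append, List.map_cons, List.map_nil, List.sum_cons, List.sum_nil, pi6, piE6,
    List.getD_cons_zero, List.getD_cons_succ, mul_one, add_zero, Fin.val_zero, Fin.val_succ, zero_add, hs,
    units_qq hK]
  simp only [mul_zpow, zpow_add, ← zpow_mul]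
  simp only [mul_comm (chevE6.cartan _ _)]
  ac_rfl

theorem chU_mem_P (n : ℕ) (t : Kˣ) (r : Rt) (w : ↥(P hq hK r)) :
    ∃ v : ↥(P hq hK r), (v : K) = (chU q n r t : Kˣ) * w ∧
      hE hq hK n t * Z hq hK r w * (hE hq hK n t)⁻¹ = Z hq hK r v := by
  have e : ((hE hq hK n t * Z hq hK r w * (hE hq hK n t)⁻¹ : ↥(Tg hq hK)) : ↥(chevE6.group K)) =
      xG certE6 K r ((chU q n r t : Kˣ) * (w : K)) *
        xG certE6 K (bar r) (if bar r = r then 0 else (chU q n (bar r) t : Kˣ) * fr hq hK r w) := by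
    simp only [Subgroup.coe_mul, InvMemClass.coe_inv, Z_val, zval]
    split_ifs with h
    · rw [mul_one, hE_xG, xG_zero, mul_one]
    · change _ * (_ * xG certE6 K (barF r : ℕ) _) * _ = _
      rw [show ∀ x y z : ↥(chevE6.group K), x * (y * z) * x⁻¹ = x * y * x⁻¹ * (x * z * x⁻¹) from
        fun x y z => by group, hE_xG, hE_xG]
      rfl
  obtain ⟨v, hv⟩ := exists_Z hq hK (r := r) (g := hE hq hK n t * Z hq hK r w * (hE hq hK n t)⁻¹) (by
    rw [mem_SG, e]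
    exact mul_mem ((chevRel certE6 K).xe_mem_US (r := r) (Or.inl rfl) _)
      ((chevRel certE6 K).xe_mem_US (r := barF r) (Or.inr rfl) _))
  refine ⟨v, ?_, hv⟩
  rw [hv, Z_val] at e
  have := Z_coord hq hK e
  rw [this]
  split_ifs <;> simp

/-- the translate of a parameter -/
noncomputable def mv (n : ℕ) (t : Kˣ) (r : Rt) (w : ↥(P hq hK r)) : ↥(P hq hK r) :=
  (chU_mem_P hq hK n t r w).choose

theorem mv_val (n : ℕ) (t : Kˣ) (r : Rt) (w : ↥(P hq hK r)) :
    (mv hq hK n t r w : K) = (chU q n r t : Kˣ) * w := (chU_mem_P hq hK n t r w).choose_spec.1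

theorem hE_Z (n : ℕ) (t : Kˣ) (r : Rt) (w : ↥(P hq hK r)) :
    hE hq hK n t * Z hq hK r w * (hE hq hK n t)⁻¹ = Z hq hK r (mv hq hK n t r w) :=
  (chU_mem_P hq hK n t r w).choose_spec.2

theorem chU_eq_one {n r : ℕ} (h1 : ex1 n r = 0) (h2 : ex2 n r = 0) (t : Kˣ) : chU q n r t = 1 := by
  rw [chU, h1, h2, zpow_zero, zpow_zero, one_mul]

theorem mv_of_triv {n : ℕ} {r : Rt} (h1 : ex1 n r = 0) (h2 : ex2 n r = 0) (t : Kˣ) (w : ↥(P hq hK r)) :
    mv hq hK n t r w = w := Subtype.ext (by rw [mv_val, chU_eq_one h1 h2, Units.val_one, one_mul])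

/-- the translations minus the identity are surjective -/
theorem exists_mv_sub (h3 : 3 ≤ q) {n : ℕ} {r : Rt} (h : Small n r) :
    ∃ t : Kˣ, ∀ v : ↥(P hq hK r), ∃ w, mv hq hK n t r w = w + v := by
  obtain ⟨t, ht⟩ := exists_chU_ne_one hq hK h3 h
  have hne : ((chU q n r t : Kˣ) : K) - 1 ≠ 0 := sub_ne_zero.2 fun e => ht (Units.ext e)
  refine ⟨t, fun v => ⟨⟨(v : K) / (((chU q n r t : Kˣ) : K) - 1), fun hr => ?_⟩, Subtype.ext ?_⟩⟩
  · have h1 : frE6 hq hK ((chU q n r t : Kˣ) : K) = (chU q n r t : Kˣ) := by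
      have := (mv hq hK n t r ⟨1, P_one hq hK⟩).2 hr
      rwa [mv_val, mul_one] at this
    rw [map_div₀, map_sub, map_one, h1, v.2 hr]
  · rw [mv_val, AddSubgroup.coe_add]
    field_simp
    ring

end CfsgLib.Lie.Chev.TwGroups.E6Mult
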